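import Mathlib
import Cfsg.Agent.Amalg.Graph

/-!
The extension theorem for the complete graph.
-/

set_option autoImplicit false

namespace Cfsg.Agent.Amalg

variable {Γ H V : Type*} [Group Γ] [Group H] [MulAction Γ V]

theorem exists_homOn_complete (K R : Subgroup Γ) (x0 : V) (X : Set V)
    (Tri : V → V → V → Prop) (hRK : R ≤ K)
    (hX : ∀ x ∈ X, ∃ g ∈ K, g • x0 = x) (hXK : ∀ g ∈ K, g • x0 ∈ X)
    (hTri : ∀ g ∈ K, ∀ x y z, Tri x y z → Tri (g • x) (g • y) (g • z))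
    (φ ρ : Γ → H) (hφ : HomOn (K ⊓ MulAction.stabilizer Γ x0) φ) (hρ : HomOn R ρ)
    (hnb : ∀ y ∈ X, ∃ p ∈ K, p • x0 = x0 ∧ ∃ l ∈ R, (p * l) • x0 = y)
    (hC : ∀ l ∈ R, ∀ l' ∈ R, ∀ p ∈ K, p • x0 = x0 → ∀ p' ∈ K, p' • x0 = x0 →
      p * l = l' * p' → φ p * ρ l = ρ l' * φ p')
    (htri : ∀ y ∈ X, ∀ z ∈ X, Tri x0 y z → ∃ p ∈ K, p • x0 = x0 ∧ ∃ r ∈ R, ∃ r' ∈ R,
      (p * r) • x0 = y ∧ (p * r') • x0 = z)
    (hsc : SimplyConn H X (fun _ _ => True) Tri) :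
    ∃ Φ : Γ → H, HomOn K Φ ∧ (∀ p ∈ K, p • x0 = x0 → Φ p = φ p) ∧ (∀ r ∈ R, Φ r = ρ r) := by
  classical
  have hx0 : x0 ∈ X := by simpa using hXK 1 K.one_mem
  have φm : ∀ {a b : Γ}, a ∈ K → a • x0 = x0 → b ∈ K → b • x0 = x0 → φ (a * b) = φ a * φ b :=
    fun ha ha' hb hb' => hφ.map_mul ⟨ha, ha'⟩ ⟨hb, hb'⟩
  have φi : ∀ {a : Γ}, a ∈ K → a • x0 = x0 → φ a⁻¹ = (φ a)⁻¹ :=
    fun ha ha' => hφ.map_inv ⟨ha, ha'⟩
  have sti : ∀ {a : Γ}, a • x0 = x0 → a⁻¹ • x0 = x0 := fun h => by rw [inv_smul_eq_iff, h]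
  have stm : ∀ {a b : Γ}, a • x0 = x0 → b • x0 = x0 → (a * b) • x0 = x0 := fun h h' => by
    rw [mul_smul, h', h]
  have stq : ∀ {a b : Γ}, a • x0 = b • x0 → (a⁻¹ * b) • x0 = x0 := fun h => by
    rw [mul_smul, ← h, inv_smul_smul]
  have hex : ∀ g ∈ K, ∃ t : Γ × Γ, t.1 ∈ K ∧ t.1 • x0 = x0 ∧ t.2 ∈ R ∧
      (t.1 * t.2) • x0 = g • x0 := by
    intro g hg
    obtain ⟨p, hp, hp0, l, hl, e⟩ := hnb _ (hXK g hg)
    exact ⟨(p, l), hp, hp0, hl, e⟩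
  choose! t ht using hex
  let ψ : Γ → H := fun g => φ (t g).1 * ρ (t g).2 * φ (((t g).1 * (t g).2)⁻¹ * g)
  have hψ : ∀ p ∈ K, p • x0 = x0 → ∀ l ∈ R, ∀ p' ∈ K, p' • x0 = x0 →
      ψ (p * l * p') = φ p * ρ l * φ p' := by
    intro p hp hp0 l hl p' hp' hp0'
    have hg : p * l * p' ∈ K := K.mul_mem (K.mul_mem hp (hRK hl)) hp'
    obtain ⟨h1, h2, h3, h4⟩ := ht _ hg
    simp only [ψ]
    generalize (t (p * l * p')).1 = a at *
    generalize (t (p * l * p')).2 = b at *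
    have hq : (a * b)⁻¹ * (p * l * p') ∈ K := K.mul_mem (K.inv_mem (K.mul_mem h1 (hRK h3))) hg
    have hq0 := stq h4
    have := hC l hl b h3 (a⁻¹ * p) (K.mul_mem (K.inv_mem h1) hp) (stm (sti h2) hp0)
      ((a * b)⁻¹ * (p * l * p') * p'⁻¹) (K.mul_mem hq (K.inv_mem hp')) (stm hq0 (sti hp0'))
      (by group)
    rw [φm (K.inv_mem h1) (sti h2) hp hp0, φm hq hq0 (K.inv_mem hp') (sti hp0'), φi h1 h2,
      φi hp' hp0'] at this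
    calc _ = φ a * (ρ b * (φ ((a * b)⁻¹ * (p * l * p')) * (φ p')⁻¹)) * φ p' := by group
      _ = _ := by rw [← this]; group
  have hdec : ∀ g ∈ K, ∃ p ∈ K, p • x0 = x0 ∧ ∃ l ∈ R,
      ∃ p' ∈ K, p' • x0 = x0 ∧ g = p * l * p' := by
    intro g hg
    obtain ⟨p, hp, hp0, l, hl, e⟩ := hnb _ (hXK g hg)
    exact ⟨p, hp, hp0, l, hl, (p * l)⁻¹ * g,
      K.mul_mem (K.inv_mem (K.mul_mem hp (hRK hl))) hg, stq e, by group⟩
  have hψ2 : ∀ p ∈ K, p • x0 = x0 → ∀ g ∈ K, ∀ p' ∈ K, p' • x0 = x0 →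
      ψ (p * g * p') = φ p * ψ g * φ p' := by
    intro p hp hp0 g hg p' hp' hp0'
    obtain ⟨a, ha, ha0, l, hl, b, hb, hb0, rfl⟩ := hdec g hg
    rw [hψ a ha ha0 l hl b hb hb0,
      show p * (a * l * b) * p' = (p * a) * l * (b * p') by group,
      hψ _ (K.mul_mem hp ha) (stm hp0 ha0) l hl _ (K.mul_mem hb hp') (stm hb0 hp0'),
      φm hp hp0 ha ha0, φm hb hb0 hp' hp0']
    group
  have hψR : ∀ r ∈ R, ψ r = ρ r := by
    intro r hr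
    simpa [hφ.map_one] using hψ 1 K.one_mem (one_smul _ _) r hr 1 K.one_mem (one_smul _ _)
  obtain ⟨Φ, h1, h2, h3⟩ := exists_homOn_of_cocycle K x0 X (fun _ _ => True) Tri hX hXK
    (fun _ _ _ _ _ => trivial) hTri φ ψ hφ
    (fun p hp hp0 g hg _ => by
      simpa [hφ.map_one] using hψ2 p hp hp0 g hg 1 K.one_mem (one_smul _ _))
    (fun p hp hp0 g hg _ => by
      simpa [hφ.map_one] using hψ2 1 K.one_mem (one_smul _ _) g hg p hp hp0)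
    (fun g hg _ => by
      obtain ⟨a, ha, ha0, l, hl, b, hb, hb0, rfl⟩ := hdec g hg
      rw [hψ a ha ha0 l hl b hb hb0, show (a * l * b)⁻¹ = b⁻¹ * l⁻¹ * a⁻¹ by group,
        hψ _ (K.inv_mem hb) (sti hb0) _ (R.inv_mem hl) _ (K.inv_mem ha) (sti ha0),
        φi hb hb0, φi ha ha0, hρ.map_inv hl]
      group)
    (fun g hg h hh hT => by
      have hgX := hXK g hg
      have hghX := hXK _ (K.mul_mem hg hh)
      obtain ⟨p, hp, hp0, r, hr, r', hr', e, e'⟩ := htri _ hgX _ hghX hT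
      have hq : (p * r)⁻¹ * g ∈ K := K.mul_mem (K.inv_mem (K.mul_mem hp (hRK hr))) hg
      have hq' : (p * r')⁻¹ * (g * h) ∈ K :=
        K.mul_mem (K.inv_mem (K.mul_mem hp (hRK hr'))) (K.mul_mem hg hh)
      have hrr : r⁻¹ * r' ∈ R := R.mul_mem (R.inv_mem hr) hr'
      have c1 := hψ2 p hp hp0 r (hRK hr) _ hq (stq e)
      have c3 := hψ2 p hp hp0 r' (hRK hr') _ hq' (stq e')
      have c2 := hψ2 _ (K.inv_mem hq) (sti (stq e)) _ (hRK hrr) _ hq' (stq e')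
      rw [mul_inv_cancel_left] at c1 c3
      rw [show ((p * r)⁻¹ * g)⁻¹ * (r⁻¹ * r') * ((p * r')⁻¹ * (g * h)) = h by group] at c2
      rw [c1, c2, c3, φi hq (stq e), hψR r hr, hψR r' hr', hψR _ hrr,
        hρ.map_mul (R.inv_mem hr) hr', hρ.map_inv hr]
      group)
    (fun P h0 hP x hx => hP x0 hx0 x hx trivial h0) hsc
  exact ⟨Φ, h1, h2, fun r hr => by rw [h3 r (hRK hr) trivial, hψR r hr]⟩

/-- The elements `p` of `K` compatible with conjugation by `l`. -/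
def HomOn.goodSub {K : Subgroup Γ} {φ : Γ → H} (h : HomOn K φ) (l : Γ) (y : H) : Subgroup Γ where
  carrier := {p | p ∈ K ∧ l⁻¹ * p * l ∈ K ∧ φ p * y = y * φ (l⁻¹ * p * l)}
  mul_mem' {a b} ha hb := by
    have e : l⁻¹ * (a * b) * l = (l⁻¹ * a * l) * (l⁻¹ * b * l) := by group
    refine ⟨K.mul_mem ha.1 hb.1, e ▸ K.mul_mem ha.2.1 hb.2.1, ?_⟩
    rw [e, h.map_mul ha.1 hb.1, h.map_mul ha.2.1 hb.2.1, mul_assoc, hb.2.2, ← mul_assoc, ha.2.2,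
      mul_assoc]
  one_mem' := ⟨K.one_mem, by simp, by simp [h.map_one]⟩
  inv_mem' {a} ha := by
    have e : l⁻¹ * a⁻¹ * l = (l⁻¹ * a * l)⁻¹ := by group
    refine ⟨K.inv_mem ha.1, e ▸ K.inv_mem ha.2.1, ?_⟩
    rw [e, h.map_inv ha.1, h.map_inv ha.2.1, inv_mul_eq_iff_eq_mul, ← mul_assoc, ha.2.2,
      mul_inv_cancel_right]

end Cfsg.Agent.Amalg
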