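import Mathlib
import Cfsg.Agent.Amalg.UConn
import Cfsg.Agent.Amalg.Graph2

/-!
The special unitary group is the universal completion of its Phan amalgam (`q ≥ 4`).
-/

set_option autoImplicit false

namespace Cfsg.Agent.Amalg

open Matrix Set

variable {F : Type*} [Field F] [Fintype F] {q : ℕ} [hF : Fact (Fintype.card F = q ^ 2)]
  {N : ℕ} {H : Type*} [Group H]

/-- Elements of `K` whose image commutes with `y`. -/
def HomOn.commSub' {Γ : Type*} [Group Γ] {K : Subgroup Γ} {φ : Γ → H} (h : HomOn K φ) (y : H) :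
    Subgroup Γ where
  carrier := {g | g ∈ K ∧ φ g * y = y * φ g}
  mul_mem' {a b} ha hb := ⟨K.mul_mem ha.1 hb.1, by
    rw [h.map_mul ha.1 hb.1, mul_assoc, hb.2, ← mul_assoc, ha.2, mul_assoc]⟩
  one_mem' := ⟨K.one_mem, by simp [h.map_one]⟩
  inv_mem' {a} ha := ⟨K.inv_mem ha.1, by
    rw [h.map_inv ha.1, inv_mul_eq_iff_eq_mul, ← mul_assoc, ha.2, mul_inv_cancel_right]⟩

theorem usupp_two {k : ℕ} (hk : k + 2 ≤ N) {v : Fin N → F} (hv : USupp q (Ico k (k + 2)) v) :
    v = hf q v (ue k) • ue k + hf q v (ue (k + 1)) • ue (k + 1) := by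
  apply vec_ext (q := q)
  intro l
  by_cases h0 : l = k
  · simp [h0, hf_ue_self (show k < N by omega), hf_ue_ne]
  by_cases h1 : l = k + 1
  · simp [h1, hf_ue_self (show k + 1 < N by omega), hf_ue_ne]
  rw [hv l (by simp only [mem_Ico]; omega)]
  simp [hf_ue_ne (Ne.symm h0), hf_ue_ne (Ne.symm h1)]

theorem u_step (hq : 4 ≤ q) {k : ℕ} (hk : k + 4 ≤ N) {ρ Φ : SU N F q → H}
    (hρ : HomOn (uFix N F q (Ico k (k + 3))) ρ) (hΦ : HomOn (uFix N F q (Ico (k + 1) N)) Φ)
    (hag : ∀ g ∈ uFix N F q (Ico (k + 1) (k + 3)), Φ g = ρ g)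
    (hcomm : ∀ x ∈ uFix N F q (Ico k (k + 2)), ∀ y ∈ uFix N F q (Ico (k + 2) N),
      Φ y * ρ x = ρ x * Φ y) :
    ∃ Φ' : SU N F q → H, HomOn (uFix N F q (Ico k N)) Φ' ∧
      (∀ g ∈ uFix N F q (Ico (k + 1) N), Φ' g = Φ g) ∧
      ∀ g ∈ uFix N F q (Ico k (k + 3)), Φ' g = ρ g := by
  have hq3 : 3 ≤ q := by omega
  have he : ∀ M, k < M → ue k ∈ UX N F q (Ico k M) := fun M hM =>
    ue_mem_UX (by simp only [mem_Ico]; omega) (by omega)
  have hGG : uFix N F q (Ico (k + 1) N) ≤ uFix N F q (Ico k N) :=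
    uFix_mono (Ico_subset_Ico (by omega) le_rfl)
  have hGG' : uFix N F q (Ico (k + 2) N) ≤ uFix N F q (Ico (k + 1) N) :=
    uFix_mono (Ico_subset_Ico (by omega) le_rfl)
  have hRG : uFix N F q (Ico k (k + 3)) ≤ uFix N F q (Ico k N) :=
    uFix_mono (Ico_subset_Ico le_rfl (by omega))
  have hnb : ∀ M, k + 2 ≤ M → M ≤ N → ∀ y ∈ UX N F q (Ico k M), UAdj q (ue k) y →
      ∃ p ∈ uFix N F q (Ico k M), p • (ue k : Fin N → F) = ue k ∧
        ∃ l ∈ uFix N F q (Ico k (k + 2)), (p * l) • (ue k : Fin N → F) = y := by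
    intro M h1 h2 y hy h
    obtain ⟨p, hp, a, b, -, hab, e⟩ := u_nb hq3 h2 h1 hy h
    obtain ⟨l, hl, e'⟩ := exists_B_smul (N := N) (k := k) (by omega) a b hab
    exact ⟨p, uFix_mono (Ico_subset_Ico (by omega) le_rfl) hp, hp k (by simp), l, hl,
      by rw [mul_smul, e', e]⟩
  have e11 : hf q (ue (k + 1) : Fin N → F) (ue (k + 1)) = 1 := hf_ue_self (by omega)
  have e00 : hf q (ue k : Fin N → F) (ue k) = 1 := hf_ue_self (by omega)
  have e22 : hf q (ue (k + 2) : Fin N → F) (ue (k + 2)) = 1 := hf_ue_self (by omega)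
  obtain ⟨Φ', h1, h2, h3⟩ := exists_homOn_of_amalgam' (uFix N F q (Ico k N))
    (uFix N F q (Ico k (k + 2))) (uFix N F q (Ico k (k + 3))) (ue k : Fin N → F)
    (UX N F q (Ico k N)) (UAdj q) (UTri q) (uFix_mono (Ico_subset_Ico le_rfl (by omega))) hRG
    (fun x hx => u_trans hq3 le_rfl (by omega) hx)
    (fun g hg => UX.act (he N (by omega)) hg)
    (fun g _ x y h => uAdj_smul g h) (fun g _ x y z h => uTri_smul g h)
    (fun x _ y _ h => h.symm) (fun x _ y _ z _ h => ⟨h.1, h.2.1, h.2.2.1⟩) Φ ρ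
    (hΦ.mono fun g hg => mem_uFix_succ hg.1 hg.2) hρ
    (fun r hr hr0 => hag r (mem_uFix_succ hr hr0))
    (hnb N (by omega) le_rfl)
    (fun r hr h => hnb (k + 3) (by omega) (by omega) _ (UX.act (he _ (by omega)) hr) h)
    (fun l hl l' hl' h p hp hp0 e => by
      have s1 := usupp_two (by omega) ((he (k + 2) (by omega)).1.act hl)
      have s2 := usupp_two (by omega) ((he (k + 2) (by omega)).1.act hl')
      have hn := hf_smul_smul l (ue k) (ue k)
      rw [mul_smul] at e
      generalize hf q (l • (ue k : Fin N → F)) (ue k) = a at s1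
      generalize hf q (l • (ue k : Fin N → F)) (ue (k + 1)) = b at s1
      generalize hf q (l' • (ue k : Fin N → F)) (ue k) = a' at s2
      generalize hf q (l' • (ue k : Fin N → F)) (ue (k + 1)) = b' at s2
      have hb : b ≠ 0 := by
        rintro rfl
        apply h
        rw [s1] at hn ⊢
        simpa [e00, mul_comm] using hn
      rw [s1, s2, smul_add, su_smul_smul, su_smul_smul, hp0] at e
      have ha : a = a' := by
        have := congrArg (fun v => hf q v (ue k)) e
        simpa [hf_smul_ue_of_fix hp0, e00, hf_ue_ne] using this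
      rw [ha, add_right_inj] at e
      have e2 : p • (ue (k + 1) : Fin N → F) = (b' / b) • ue (k + 1) := by
        rw [div_eq_inv_mul, mul_smul, ← e, smul_smul, inv_mul_cancel₀ hb, one_smul]
      have hn2 := hf_smul_smul p (ue (k + 1)) (ue (k + 1))
      rw [e2, hf_smul_left, hf_smul_right, e11] at hn2
      obtain ⟨m, hm, em⟩ := exists_B_smul (N := N) (k := k + 1) (by omega) (b' / b) 0
        (by rw [zero_mul, add_zero, ← hn2, mul_one])
      rw [zero_smul, add_zero] at em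
      have hm0 : m • (ue k : Fin N → F) = ue k := hm k (by simp)
      have hc : m⁻¹ * p ∈ uFix N F q (Ico (k + 2) N) :=
        mem_uFix_succ (Subgroup.mul_mem _ (Subgroup.inv_mem _
          (uFix_mono (Ico_subset_Ico le_rfl (by omega)) hm)) (mem_uFix_succ hp hp0))
          (by rw [mul_smul, e2, ← em, inv_smul_smul])
      refine ⟨m, uFix_mono (Ico_subset_Ico (by omega) le_rfl) hm, hm0, m⁻¹ * p, hGG (hGG' hc),
        hc k (by simp), by group, uFix_comm ?_ hc hl, hcomm l hl _ hc⟩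
      rw [Set.disjoint_left]
      intro j h1 h2
      simp only [mem_Ico] at h1 h2
      omega)
    (fun y hy z hz h => by
      obtain ⟨p, hp, a, b, hb, hab, e⟩ := u_nb hq3 le_rfl (by omega) hy h.1
      have hp0 : p • (ue k : Fin N → F) = ue k := hp k (by simp)
      have hz' := UX.act hz (Subgroup.inv_mem _ (hGG hp))
      have hy' : a • ue k + b • ue (k + 1) ∈ UX N F q (Ico k (k + 3)) :=
        ⟨((he _ (by omega)).1.smul a).add ((usupp_ue (by simp)).smul b), by
          rw [← hf_smul_smul p, e, hy.2]⟩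
      have hT := uTri_smul p⁻¹ h
      rw [← e, inv_smul_smul, inv_smul_eq_iff.2 hp0.symm] at hT
      obtain ⟨α, β, w1, w2⟩ := exists_proj e00 hy'.2 hT.1 (p⁻¹ • z)
      have hG := hT.2.2.2
      rw [uGram_eq e00 hy'.2 hz'.2 w1 w2] at hG
      obtain ⟨g, hg, γ, eg⟩ := u_trans' hq3 le_rfl (k := k + 2) (by omega) (usupp_of_perp
        ((hz'.1.sub ((he N (by omega)).1.smul α)).sub
          ((hy'.1.mono (Ico_subset_Ico le_rfl (by omega))).smul β)) hb w1 w2)
        (right_ne_zero_of_mul hG)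
      have g0 : g • (ue k : Fin N → F) = ue k := hg k (by simp)
      have g1 : g • (ue (k + 1) : Fin N → F) = ue (k + 1) := hg (k + 1) (by simp)
      have gy : g • (a • ue k + b • ue (k + 1) : Fin N → F) = a • ue k + b • ue (k + 1) := by
        rw [smul_add, su_smul_smul, su_smul_smul, g0, g1]
      have gz : g • (α • ue k + β • (a • ue k + b • ue (k + 1)) + γ • ue (k + 2) : Fin N → F) =
          p⁻¹ • z := by
        rw [smul_add, smul_add, eg, su_smul_smul, su_smul_smul, gy, g0]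
        abel
      obtain ⟨r, hr, er⟩ := u_trans hq3 (M := k + 3) (by omega) (by omega) hy'
      obtain ⟨r', hr', er'⟩ := u_trans hq3 (M := k + 3) (k := k) (by omega) (by omega)
        (y := (α • ue k + β • (a • ue k + b • ue (k + 1)) + γ • ue (k + 2) : Fin N → F))
        ⟨(((he _ (by omega)).1.smul α).add (hy'.1.smul β)).add ((usupp_ue (by simp)).smul γ), by
          rw [← hf_smul_smul g, gz, hz'.2]⟩
      refine ⟨p * g, Subgroup.mul_mem _ (hGG hp) (hGG (hGG' hg)), by rw [mul_smul, g0, hp0],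
        r, hr, r', hr', ?_, ?_⟩
      · rw [mul_smul, mul_smul, er, gy, e]
      · rw [mul_smul, mul_smul, er', gz, smul_inv_smul])
    (conn_of_common _ _ _ (he N (by omega)) fun y hy =>
      u_common2 hq3 le_rfl (by omega) (he N (by omega)) hy)
    (u_simplyConn H hq le_rfl hk)
  refine ⟨Φ', h1, fun g hg => h2 g (hGG hg) (hg k (by simp)), fun g hg => ?_⟩
  obtain ⟨v, hv, v1, v2⟩ := u_common2 hq3 (M := k + 3) (by omega) le_rfl (he _ (by omega))
    (UX.act (he _ (by omega)) hg)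
  obtain ⟨x, hx, rfl⟩ := u_trans hq3 (M := k + 3) (by omega) (by omega) hv
  have hxg : x⁻¹ * g ∈ uFix N F q (Ico k (k + 3)) :=
    Subgroup.mul_mem _ (Subgroup.inv_mem _ hx) hg
  have e2 := h3 _ hxg (by simpa [mul_smul] using uAdj_smul x⁻¹ v2)
  rw [show g = x * (x⁻¹ * g) by group, h1.map_mul (hRG hx) (hRG hxg), h3 x hx v1, e2,
    hρ.map_mul hx hxg]

/-- The amalgam theorem. -/
theorem u_amalgam (hq : 4 ≤ q) (hN : 3 ≤ N) (α : ℕ → SU N F q → H)
    (hα : ∀ i, i + 3 ≤ N → HomOn (uFix N F q (Ico i (i + 3))) (α i))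
    (hag : ∀ i, i + 4 ≤ N → ∀ g ∈ uFix N F q (Ico (i + 1) (i + 3)), α (i + 1) g = α i g)
    (hcomm : ∀ i j, i + 1 ≤ j → j + 3 ≤ N → ∀ x ∈ uFix N F q (Ico i (i + 2)),
      ∀ y ∈ uFix N F q (Ico (j + 1) (j + 3)), α j y * α i x = α i x * α j y) :
    ∃ Φ : SU N F q →* H, ∀ i, i + 3 ≤ N → ∀ g ∈ uFix N F q (Ico i (i + 3)), Φ g = α i g := by
  have key : ∀ d k : ℕ, k + 3 + d = N → ∃ Φ : SU N F q → H, HomOn (uFix N F q (Ico k N)) Φ ∧
      ∀ i, k ≤ i → i + 3 ≤ N → ∀ g ∈ uFix N F q (Ico i (i + 3)), Φ g = α i g := by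
    intro d
    induction d with
    | zero =>
      intro k hk
      refine ⟨α k, by have := hα k (by omega); rwa [show k + 3 = N from hk] at this,
        fun i h1 h2 g _ => ?_⟩
      rw [show i = k by omega]
    | succ d ih =>
      intro k hk
      obtain ⟨Φ, h1, h2⟩ := ih (k + 1) (by omega)
      obtain ⟨Φ', a1, a2, a3⟩ := u_step hq (k := k) (by omega) (hα k (by omega)) h1
        (fun g hg => by
          rw [h2 (k + 1) le_rfl (by omega) g (uFix_mono (Ico_subset_Ico le_rfl (by omega)) hg),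
            hag k (by omega) g hg])
        (fun x hx y hy => by
          refine (u_gen (by omega) le_rfl (h1.commSub' (α k x)) (k := k + 2) (by omega)
            (fun j hj hj' z hz => ?_) hy).2
          obtain ⟨j, rfl⟩ : ∃ j', j = j' + 1 := ⟨j - 1, by omega⟩
          refine ⟨uFix_mono (Ico_subset_Ico (by omega) (by omega)) hz, ?_⟩
          rw [h2 j (by omega) (by omega) z (uFix_mono (Ico_subset_Ico (by omega) le_rfl) hz)]
          exact hcomm k j (by omega) (by omega) x hx z hz)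
      refine ⟨Φ', a1, fun i hi hi' g hg => ?_⟩
      by_cases hik : i = k
      · subst hik; exact a3 g hg
      · rw [a2 g (uFix_mono (Ico_subset_Ico (by omega) hi') hg), h2 i (by omega) hi' g hg]
  obtain ⟨Φ, h1, h2⟩ := key (N - 3) 0 (by omega)
  have e : uFix N F q (Ico 0 N) = ⊤ := by
    rw [eq_top_iff]
    intro g _ l hl
    rw [ue_of_le (by simpa using hl), smul_zero]
  rw [e] at h1
  exact ⟨h1.toHomTop, fun i hi g hg => h2 i (Nat.zero_le _) hi g hg⟩

end Cfsg.Agent.Amalg
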