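import Mathlib
import Cfsg.Agent.Amalg.UAmalg
import Cfsg.Agent.Amalg.USimple

/-!
The amalgam theorem for unitary groups with `q ≥ 3`, starting from a four-dimensional block.
-/

set_option autoImplicit false

namespace Cfsg.Agent.Amalg

open Matrix Set

variable {F : Type*} [Field F] [Fintype F] {q : ℕ} [hF : Fact (Fintype.card F = q ^ 2)]
  {N : ℕ} {H : Type*} [Group H]

theorem exists_unit_perp_iso2 {M k : ℕ} (hM : M ≤ N) (hk : k + 5 ≤ M) {x y r : Fin N → F}
    (hx : x ∈ UX N F q (Ico k M)) (hy : y ∈ UX N F q (Ico k M)) (h : UAdj q x y)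
    (hr : USupp q (Ico k M) r) (hrr : hf q r r = 0) (hrx : hf q r x = 0) (hry : hf q r y = 0) :
    ∃ v ∈ UX N F q (Ico k M), hf q v x = 0 ∧ hf q v y = 0 ∧ hf q v r = 0 := by
  by_cases h0 : r = 0
  · obtain ⟨v, hv, v1, v2⟩ := All.exists_unit_perp2 hM (by omega) hx hy h
    exact ⟨v, hv, v1, v2, by simp [h0]⟩
  obtain ⟨g, hg, a, b, hb, rfl, rfl⟩ := All.u_frame2 hM (by omega) hx hy h
  rw [hf_smul_right'] at hrx hry
  obtain ⟨u, hu, hu'⟩ := All.exists_unit_perp_iso0 hM (k := k + 2) (by omega)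
    (usupp_of_perp (hr.act (Subgroup.inv_mem _ hg)) hb hrx hry)
    (fun e => h0 (by rw [← smul_inv_smul g r, e, smul_zero])) (by simpa using hrr)
  have u0 := hu.1 k (by simp)
  have u1 := hu.1 (k + 1) (by simp)
  refine ⟨g • u, UX.act ⟨hu.1.mono (Ico_subset_Ico (by omega) le_rfl), hu.2⟩ hg, by simp [u0],
    by rw [hf_smul_smul]; simp [u0, u1], by rw [hf_smul_left', hu']⟩

theorem uTri_of_perp {x y v : Fin N → F} (h : UAdj q x y) (h1 : hf q v x = 0) (h2 : hf q v y = 0) :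
    UTri q x v y := by
  refine ⟨uAdj_of_perp' h1, uAdj_of_perp h2, h, ?_⟩
  simp only [uGram, h1, h2, hf_eq_zero_comm h1, hf_eq_zero_comm h2]
  intro e; apply h; linear_combination -e

theorem u_simplyConn5 (H : Type*) [Group H] (hq3 : 3 ≤ q) {M k : ℕ} (hM : M ≤ N)
    (hk5 : k + 5 ≤ M) :
    SimplyConn H (UX N F q (Ico k M)) (UAdj q) (UTri q) := by
  intro c hc hT
  have hk : k + 4 ≤ M := by omega
  set X := UX N F q (Ico k M) with hX
  have hT' : ∀ x ∈ X, ∀ y ∈ X, ∀ z ∈ X, UAdj q x y → UAdj q y z → UAdj q x z →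
      c x y * c y z = c x z := by
    intro x hx y hy z hz hxy hyz hxz
    by_cases hG : uGram q x y z ≠ 0
    · exact hT x hx y hy z hz ⟨hxy, hyz, hxz, hG⟩
    rw [not_not] at hG
    obtain ⟨v, hv, t1, t2, t3⟩ : ∃ v ∈ X, UTri q x v y ∧ UTri q y v z ∧ UTri q x v z := by
      obtain ⟨α, β, h1, h2⟩ := exists_proj hx.2 hy.2 hxy z
      have hrr := uGram_eq hx.2 hy.2 hz.2 h1 h2
      rw [hG, eq_comm, mul_eq_zero, or_iff_right (sub_ne_zero.2 (Ne.symm hxy))] at hrr
      obtain ⟨v, hv, v1, v2, v3⟩ := exists_unit_perp_iso2 hM hk5 hx hy hxy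
        ((hz.1.sub (hx.1.smul α)).sub (hy.1.smul β)) hrr h1 h2
      have v4 : hf q v z = 0 := by simpa [v1, v2] using v3
      exact ⟨v, hv, uTri_of_perp hxy v1 v2, uTri_of_perp hyz v2 v4, uTri_of_perp hxz v1 v4⟩
    rw [← hT x hx v hv y hy t1, ← hT y hy v hv z hz t2, ← hT x hx v hv z hz t3, mul_assoc,
      ← mul_assoc (c v y), hc v hv y hy t1.2.1, one_mul]
  have hx0 : ue k ∈ X := ue_mem_UX (by simp only [mem_Ico]; omega) (by omega)
  refine exists_potential X (UAdj q) (ue k) c hT' (fun y hy z hz h => ?_)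
    (fun x _ y _ h => h.symm) fun y hy a ha b hb a1 a2 b1 b2 => ?_
  · obtain ⟨v, hv, h1, h2, h3⟩ := u_common3 hq3 hM hk hx0 hy hz h
    exact ⟨v, hv, h1, uAdj_of_perp h2, uAdj_of_perp h3⟩
  generalize (ue k : Fin N → F) = x at hx0 a1 b1 ⊢
  by_cases hxy : UAdj q x y
  · rw [hT' x hx0 a ha y hy a1 a2 hxy, hT' x hx0 b hb y hy b1 b2 hxy]
  have h' : hf q x y * hf q y x = 1 := not_not.1 hxy
  have Q : ∀ a ∈ X, ∀ b ∈ X, UAdj q x a → UAdj q a y → UAdj q x b → UAdj q b y → UAdj q a b →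
      c x a * c a y = c x b * c b y := fun a ha b hb h1 h2 h3 h4 h5 =>
    quad_of_adj hT' hx0 hy ha hb h1 h2 h3 h4 h5
  have hr : USupp q (Ico k M) (y - hf q y x • x) := hy.1.sub (hx0.1.smul _)
  have hrx : hf q (y - hf q y x • x) x = 0 := by simp [hx0.2]
  by_cases h0 : y - hf q y x • x = 0
  · obtain ⟨v, hv, h1, h2, h3⟩ := u_common3 hq3 hM hk hb hx0 ha a1
    have h4 : UAdj q v y := uAdj_of_perp (by rw [sub_eq_zero.1 h0]; simp [h2])
    rw [Q a ha v hv a1 a2 (uAdj_of_perp' h2) h4 (uAdj_of_perp' h3),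
      Q b hb v hv b1 b2 (uAdj_of_perp' h2) h4 h1]
  have hrr : hf q (y - hf q y x • x) (y - hf q y x • x) = 0 := by
    simp [hx0.2, hy.2]
    linear_combination -h'
  have hyr : ∀ v, hf q v x = 0 → hf q v y = hf q v (y - hf q y x • x) := fun v hv => by
    simp [hv]
  have hyr' : ∀ v, hf q v x = 0 → hf q y v = hf q (y - hf q y x • x) v := fun v hv => by
    simp [hf_eq_zero_comm hv]
  generalize y - hf q y x • x = r at hr hrx h0 hrr hyr hyr'
  obtain ⟨s, s1, s2, s3⟩ := exists_fixed_ne (F := F) q hq3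
  -- a unit vector perpendicular to `x` and `r`
  obtain ⟨u, hu, ux, ur⟩ : ∃ u ∈ X, hf q u x = 0 ∧ hf q u r = 0 := by
    obtain ⟨w, hw, w1, w2⟩ := exists_perp_one hx0 hr h0 hrx
    obtain ⟨α, l, v1, v2⟩ := exists_unit_iso hrr w2 s1 s2
    have hv : α • w + l • r ∈ X := ⟨(hw.smul α).add (hr.smul l), v1⟩
    have v3 : hf q (α • w + l • r) x = 0 := by simp [w1, hrx]
    generalize α • w + l • r = v at hv v2 v3
    have v4 := hf_eq_zero_comm v3
    obtain ⟨u, hu, u1, u2, u3⟩ := exists_unit_perp3 hq3 hM hk hx0 hv (uAdj_of_perp v4)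
      (w := r - hf q r v • v) (hr.sub (hv.1.smul _)) (by
        simp only [hf_sub_left, hf_sub_right, hf_smul_left, hf_smul_right, hrr, hv.2, cj_hf]
        intro h; apply s2; linear_combination -h - v2) (by simp [hrx, v3]) (by simp [hv.2])
    exact ⟨u, hu, u1, by simpa [u2] using u3⟩
  have ur' := hf_eq_zero_comm ur
  have ux' := hf_eq_zero_comm ux
  have hul : ∀ l : F, u + l • r ∈ X := fun l =>
    ⟨hu.1.add (hr.smul l), by simp [hu.2, ur, ur', hrr]⟩
  have ulx : ∀ l : F, hf q (u + l • r) x = 0 := fun l => by simp [ux, hrx]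
  have uly : ∀ l : F, UAdj q (u + l • r) y := fun l =>
    uAdj_of_perp (by rw [hyr _ (ulx l)]; simp [ur, hrr])
  have uy : UAdj q u y := by simpa using uly 0
  -- all points of the line give the same value
  have L : ∀ l : F, c x (u + l • r) * c (u + l • r) y = c x u * c u y := by
    intro l
    obtain ⟨v, hv, v1, v2, v3⟩ := exists_unit_perp_iso2 hM hk5 hx0 hu (uAdj_of_perp ux') hr hrr
      hrx ur'
    have hvy : UAdj q v y := uAdj_of_perp (by rw [hyr v v1, v3])
    rw [Q _ (hul l) v hv (uAdj_of_perp' (ulx l)) (uly l) (uAdj_of_perp' v1) hvy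
        (uAdj_of_perp' (by simp [v2, v3])),
      Q u hu v hv (uAdj_of_perp ux') uy (uAdj_of_perp' v1) hvy (uAdj_of_perp' v2)]
  have P1 : ∀ a ∈ X, UAdj q x a → UAdj q a y → hf q r a ≠ 0 → c x a * c a y = c x u * c u y := by
    intro a ha a1 a2 h
    rw [← L (-hf q u a / hf q r a)]
    refine Q a ha _ (hul _) a1 a2 (uAdj_of_perp' (ulx _)) (uly _) (uAdj_of_perp' ?_)
    simp only [hf_add_left, hf_smul_left]
    field_simp
    ring
  have P2 : ∀ a ∈ X, UAdj q x a → UAdj q a y → c x a * c a y = c x u * c u y := by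
    intro a ha a1 a2
    by_cases h : hf q r a ≠ 0
    · exact P1 a ha a1 a2 h
    obtain ⟨v, hv, v1, v2, v3⟩ := exists_unit_perp_iso hx0 ha a1 hr h0 hrr hrx (not_not.1 h) s1 s2
    have hvy : UAdj q v y := by
      rw [UAdj, hyr v v1, hyr' v v1, mul_comm, v3]; exact s3
    rw [Q a ha v hv a1 a2 (uAdj_of_perp' v1) hvy (uAdj_of_perp' v2)]
    exact P1 v hv (uAdj_of_perp' v1) hvy (fun h => s2 (by rw [← v3, h, zero_mul]))
  rw [P2 a ha a1 a2, P2 b hb b1 b2]

theorem u_step' (hq3 : 3 ≤ q) {k : ℕ} (hk : k + 4 ≤ N) {ρ Φ : SU N F q → H}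
    (hsc : SimplyConn H (UX N F q (Ico k N)) (UAdj q) (UTri q))
    (hρ : HomOn (uFix N F q (Ico k (k + 3))) ρ) (hΦ : HomOn (uFix N F q (Ico (k + 1) N)) Φ)
    (hag : ∀ g ∈ uFix N F q (Ico (k + 1) (k + 3)), Φ g = ρ g)
    (hcomm : ∀ x ∈ uFix N F q (Ico k (k + 2)), ∀ y ∈ uFix N F q (Ico (k + 2) N),
      Φ y * ρ x = ρ x * Φ y) :
    ∃ Φ' : SU N F q → H, HomOn (uFix N F q (Ico k N)) Φ' ∧
      (∀ g ∈ uFix N F q (Ico (k + 1) N), Φ' g = Φ g) ∧
      ∀ g ∈ uFix N F q (Ico k (k + 3)), Φ' g = ρ g := by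
  have he : ∀ M, k < M → ue k ∈ UX N F q (Ico k M) := fun M hM =>
    ue_mem_UX (by simp only [mem_Ico]; omega) (by omega)
  have hGG : uFix N F q (Ico (k + 1) N) ≤ uFix N F q (Ico k N) :=
    uFix_mono (Ico_subset_Ico (by omega) le_rfl)
  have hGG' : uFix N F q (Ico (k + 2) N) ≤ uFix N F q (Ico (k + 1) N) :=
    uFix_mono (Ico_subset_Ico (by omega) le_rfl)
  have hRG : uFix N F q (Ico k (k + 3)) ≤ uFix N F q (Ico k N) :=
    uFix_mono (Ico_subset_Ico le_rfl (by omega))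
  have hnb : ∀ M, k + 2 ≤ M → M ≤ N → ∀ y ∈ UX N F q (Ico k M), UAdj q (ue k) y →
      ∃ p ∈ uFix N F q (Ico k M), p • (ue k : Fin N → F) = ue k ∧
        ∃ l ∈ uFix N F q (Ico k (k + 2)), (p * l) • (ue k : Fin N → F) = y := by
    intro M h1 h2 y hy h
    obtain ⟨p, hp, a, b, -, hab, e⟩ := u_nb hq3 h2 h1 hy h
    obtain ⟨l, hl, e'⟩ := exists_B_smul (N := N) (k := k) (by omega) a b hab
    exact ⟨p, uFix_mono (Ico_subset_Ico (by omega) le_rfl) hp, hp k (by simp), l, hl,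
      by rw [mul_smul, e', e]⟩
  have e11 : hf q (ue (k + 1) : Fin N → F) (ue (k + 1)) = 1 := hf_ue_self (by omega)
  have e00 : hf q (ue k : Fin N → F) (ue k) = 1 := hf_ue_self (by omega)
  have e22 : hf q (ue (k + 2) : Fin N → F) (ue (k + 2)) = 1 := hf_ue_self (by omega)
  obtain ⟨Φ', h1, h2, h3⟩ := exists_homOn_of_amalgam' (uFix N F q (Ico k N))
    (uFix N F q (Ico k (k + 2))) (uFix N F q (Ico k (k + 3))) (ue k : Fin N → F)
    (UX N F q (Ico k N)) (UAdj q) (UTri q) (uFix_mono (Ico_subset_Ico le_rfl (by omega))) hRG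
    (fun x hx => u_trans hq3 le_rfl (by omega) hx)
    (fun g hg => UX.act (he N (by omega)) hg)
    (fun g _ x y h => uAdj_smul g h) (fun g _ x y z h => uTri_smul g h)
    (fun x _ y _ h => h.symm) (fun x _ y _ z _ h => ⟨h.1, h.2.1, h.2.2.1⟩) Φ ρ
    (hΦ.mono fun g hg => mem_uFix_succ hg.1 hg.2) hρ
    (fun r hr hr0 => hag r (mem_uFix_succ hr hr0))
    (hnb N (by omega) le_rfl)
    (fun r hr h => hnb (k + 3) (by omega) (by omega) _ (UX.act (he _ (by omega)) hr) h)
    (fun l hl l' hl' h p hp hp0 e => by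
      have s1 := usupp_two (by omega) ((he (k + 2) (by omega)).1.act hl)
      have s2 := usupp_two (by omega) ((he (k + 2) (by omega)).1.act hl')
      have hn := hf_smul_smul l (ue k) (ue k)
      rw [mul_smul] at e
      generalize hf q (l • (ue k : Fin N → F)) (ue k) = a at s1
      generalize hf q (l • (ue k : Fin N → F)) (ue (k + 1)) = b at s1
      generalize hf q (l' • (ue k : Fin N → F)) (ue k) = a' at s2
      generalize hf q (l' • (ue k : Fin N → F)) (ue (k + 1)) = b' at s2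
      have hb : b ≠ 0 := by
        rintro rfl
        apply h
        rw [s1] at hn ⊢
        simpa [e00, mul_comm] using hn
      rw [s1, s2, smul_add, su_smul_smul, su_smul_smul, hp0] at e
      have ha : a = a' := by
        have := congrArg (fun v => hf q v (ue k)) e
        simpa [hf_smul_ue_of_fix hp0, e00, hf_ue_ne] using this
      rw [ha, add_right_inj] at e
      have e2 : p • (ue (k + 1) : Fin N → F) = (b' / b) • ue (k + 1) := by
        rw [div_eq_inv_mul, mul_smul, ← e, smul_smul, inv_mul_cancel₀ hb, one_smul]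
      have hn2 := hf_smul_smul p (ue (k + 1)) (ue (k + 1))
      rw [e2, hf_smul_left, hf_smul_right, e11] at hn2
      obtain ⟨m, hm, em⟩ := exists_B_smul (N := N) (k := k + 1) (by omega) (b' / b) 0
        (by rw [zero_mul, add_zero, ← hn2, mul_one])
      rw [zero_smul, add_zero] at em
      have hm0 : m • (ue k : Fin N → F) = ue k := hm k (by simp)
      have hc : m⁻¹ * p ∈ uFix N F q (Ico (k + 2) N) :=
        mem_uFix_succ (Subgroup.mul_mem _ (Subgroup.inv_mem _
          (uFix_mono (Ico_subset_Ico le_rfl (by omega)) hm)) (mem_uFix_succ hp hp0))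
          (by rw [mul_smul, e2, ← em, inv_smul_smul])
      refine ⟨m, uFix_mono (Ico_subset_Ico (by omega) le_rfl) hm, hm0, m⁻¹ * p, hGG (hGG' hc),
        hc k (by simp), by group, uFix_comm ?_ hc hl, hcomm l hl _ hc⟩
      rw [Set.disjoint_left]
      intro j h1 h2
      simp only [mem_Ico] at h1 h2
      omega)
    (fun y hy z hz h => by
      obtain ⟨p, hp, a, b, hb, hab, e⟩ := u_nb hq3 le_rfl (by omega) hy h.1
      have hp0 : p • (ue k : Fin N → F) = ue k := hp k (by simp)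
      have hz' := UX.act hz (Subgroup.inv_mem _ (hGG hp))
      have hy' : a • ue k + b • ue (k + 1) ∈ UX N F q (Ico k (k + 3)) :=
        ⟨((he _ (by omega)).1.smul a).add ((usupp_ue (by simp)).smul b), by
          rw [← hf_smul_smul p, e, hy.2]⟩
      have hT := uTri_smul p⁻¹ h
      rw [← e, inv_smul_smul, inv_smul_eq_iff.2 hp0.symm] at hT
      obtain ⟨α, β, w1, w2⟩ := exists_proj e00 hy'.2 hT.1 (p⁻¹ • z)
      have hG := hT.2.2.2
      rw [uGram_eq e00 hy'.2 hz'.2 w1 w2] at hG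
      obtain ⟨g, hg, γ, eg⟩ := u_trans' hq3 le_rfl (k := k + 2) (by omega) (usupp_of_perp
        ((hz'.1.sub ((he N (by omega)).1.smul α)).sub
          ((hy'.1.mono (Ico_subset_Ico le_rfl (by omega))).smul β)) hb w1 w2)
        (right_ne_zero_of_mul hG)
      have g0 : g • (ue k : Fin N → F) = ue k := hg k (by simp)
      have g1 : g • (ue (k + 1) : Fin N → F) = ue (k + 1) := hg (k + 1) (by simp)
      have gy : g • (a • ue k + b • ue (k + 1) : Fin N → F) = a • ue k + b • ue (k + 1) := by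
        rw [smul_add, su_smul_smul, su_smul_smul, g0, g1]
      have gz : g • (α • ue k + β • (a • ue k + b • ue (k + 1)) + γ • ue (k + 2) : Fin N → F) =
          p⁻¹ • z := by
        rw [smul_add, smul_add, eg, su_smul_smul, su_smul_smul, gy, g0]
        abel
      obtain ⟨r, hr, er⟩ := u_trans hq3 (M := k + 3) (by omega) (by omega) hy'
      obtain ⟨r', hr', er'⟩ := u_trans hq3 (M := k + 3) (k := k) (by omega) (by omega)
        (y := (α • ue k + β • (a • ue k + b • ue (k + 1)) + γ • ue (k + 2) : Fin N → F))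
        ⟨(((he _ (by omega)).1.smul α).add (hy'.1.smul β)).add ((usupp_ue (by simp)).smul γ), by
          rw [← hf_smul_smul g, gz, hz'.2]⟩
      refine ⟨p * g, Subgroup.mul_mem _ (hGG hp) (hGG (hGG' hg)), by rw [mul_smul, g0, hp0],
        r, hr, r', hr', ?_, ?_⟩
      · rw [mul_smul, mul_smul, er, gy, e]
      · rw [mul_smul, mul_smul, er', gz, smul_inv_smul])
    (conn_of_common _ _ _ (he N (by omega)) fun y hy =>
      u_common2 hq3 le_rfl (by omega) (he N (by omega)) hy)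
    hsc
  refine ⟨Φ', h1, fun g hg => h2 g (hGG hg) (hg k (by simp)), fun g hg => ?_⟩
  obtain ⟨v, hv, v1, v2⟩ := u_common2 hq3 (M := k + 3) (by omega) le_rfl (he _ (by omega))
    (UX.act (he _ (by omega)) hg)
  obtain ⟨x, hx, rfl⟩ := u_trans hq3 (M := k + 3) (by omega) (by omega) hv
  have hxg : x⁻¹ * g ∈ uFix N F q (Ico k (k + 3)) :=
    Subgroup.mul_mem _ (Subgroup.inv_mem _ hx) hg
  have e2 := h3 _ hxg (by simpa [mul_smul] using uAdj_smul x⁻¹ v2)
  rw [show g = x * (x⁻¹ * g) by group, h1.map_mul (hRG hx) (hRG hxg), h3 x hx v1, e2,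
    hρ.map_mul hx hxg]

/-- The amalgam theorem. -/
theorem u_amalgam_base (hq : 3 ≤ q) (hN : 4 ≤ N) (α : ℕ → SU N F q → H) (β : SU N F q → H)
    (hβ : HomOn (uFix N F q (Ico (N - 4) N)) β)
    (hβα : ∀ i, N - 4 ≤ i → i + 3 ≤ N → ∀ g ∈ uFix N F q (Ico i (i + 3)), β g = α i g)
    (hα : ∀ i, i + 3 ≤ N → HomOn (uFix N F q (Ico i (i + 3))) (α i))
    (hag : ∀ i, i + 4 ≤ N → ∀ g ∈ uFix N F q (Ico (i + 1) (i + 3)), α (i + 1) g = α i g)
    (hcomm : ∀ i j, i + 1 ≤ j → j + 3 ≤ N → ∀ x ∈ uFix N F q (Ico i (i + 2)),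
      ∀ y ∈ uFix N F q (Ico (j + 1) (j + 3)), α j y * α i x = α i x * α j y) :
    ∃ Φ : SU N F q →* H, ∀ i, i + 3 ≤ N → ∀ g ∈ uFix N F q (Ico i (i + 3)), Φ g = α i g := by
  have key : ∀ d k : ℕ, k + 4 + d = N → ∃ Φ : SU N F q → H, HomOn (uFix N F q (Ico k N)) Φ ∧
      ∀ i, k ≤ i → i + 3 ≤ N → ∀ g ∈ uFix N F q (Ico i (i + 3)), Φ g = α i g := by
    intro d
    induction d with
    | zero =>
      intro k hk
      obtain rfl : k = N - 4 := by omega
      exact ⟨β, hβ, hβα⟩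
    | succ d ih =>
      intro k hk
      obtain ⟨Φ, h1, h2⟩ := ih (k + 1) (by omega)
      obtain ⟨Φ', a1, a2, a3⟩ := u_step' hq (k := k) (by omega)
        (u_simplyConn5 H hq le_rfl (by omega)) (hα k (by omega)) h1
        (fun g hg => by
          rw [h2 (k + 1) le_rfl (by omega) g (uFix_mono (Ico_subset_Ico le_rfl (by omega)) hg),
            hag k (by omega) g hg])
        (fun x hx y hy => by
          refine (u_gen (by omega) le_rfl (h1.commSub' (α k x)) (k := k + 2) (by omega)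
            (fun j hj hj' z hz => ?_) hy).2
          obtain ⟨j, rfl⟩ : ∃ j', j = j' + 1 := ⟨j - 1, by omega⟩
          refine ⟨uFix_mono (Ico_subset_Ico (by omega) (by omega)) hz, ?_⟩
          rw [h2 j (by omega) (by omega) z (uFix_mono (Ico_subset_Ico (by omega) le_rfl) hz)]
          exact hcomm k j (by omega) (by omega) x hx z hz)
      refine ⟨Φ', a1, fun i hi hi' g hg => ?_⟩
      by_cases hik : i = k
      · subst hik; exact a3 g hg
      · rw [a2 g (uFix_mono (Ico_subset_Ico (by omega) hi') hg), h2 i (by omega) hi' g hg]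
  obtain ⟨Φ, h1, h2⟩ := key (N - 4) 0 (by omega)
  have e : uFix N F q (Ico 0 N) = ⊤ := by
    rw [eq_top_iff]
    intro g _ l hl
    rw [ue_of_le (by simpa using hl), smul_zero]
  rw [e] at h1
  exact ⟨h1.toHomTop, fun i hi g hg => h2 i (Nat.zero_le _) hi g hg⟩

end Cfsg.Agent.Amalg
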