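import Mathlib
import Cfsg.Agent.Amalg.UFrame
import Cfsg.Agent.Amalg.Graph3

/-!
The amalgam theorem for unitary groups in terms of four-dimensional blocks, valid for all `q`.
-/

set_option autoImplicit false

namespace Cfsg.Agent.Amalg

open Matrix Set

variable {F : Type*} [Field F] [Fintype F] {q : ℕ} [hF : Fact (Fintype.card F = q ^ 2)]
  {N : ℕ} {H : Type*} [Group H]

theorem All.frame2 {M k : ℕ} (hM : M ≤ N) (hk : k + 3 ≤ M) {x y : Fin N → F}
    (hx : x ∈ UX N F q (Ico k M)) (hy : y ∈ UX N F q (Ico k M)) (h : hf q y x = 0) :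
    ∃ g ∈ uFix N F q (Ico k M), g • (ue k : Fin N → F) = x ∧ g • (ue (k + 1) : Fin N → F) = y := by
  obtain ⟨g, hg, rfl⟩ := All.u_trans hM (by omega) hx
  rw [hf_smul_right'] at h
  obtain ⟨p, hp, e⟩ := All.u_trans hM (k := k + 1) (by omega) (y := g⁻¹ • y)
    ⟨by simpa [h] using usupp_sub_ue (k := k) (by omega) (hy.1.act (Subgroup.inv_mem _ hg)),
      by simpa using hy.2⟩
  exact ⟨g * p, Subgroup.mul_mem _ hg (uFix_mono (Ico_subset_Ico (by omega) le_rfl) hp),
    by rw [mul_smul, hp k (by simp)], by rw [mul_smul, e, smul_inv_smul]⟩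

theorem All.iso_frame {M k : ℕ} (hM : M ≤ N) (hk : k + 3 ≤ M) {ν : F} (hν : ν * cj q ν = -1)
    {w : Fin N → F} (hw : USupp q (Ico k M) w) (h0 : w ≠ 0) (hn : hf q w w = 0) :
    ∃ g ∈ uFix N F q (Ico k M), g • (ue k + ν • ue (k + 1) : Fin N → F) = w := by
  obtain ⟨u, hu, h1⟩ := hw.exists_hf h0
  obtain ⟨a, l, v1, v2⟩ := exists_unit_iso hn h1 (s := 1) (map_one _) one_ne_zero
  have hv := (hu.smul a).add (hw.smul l)
  generalize a • u + l • w = v at v1 v2 hv
  have hν0 : ν ≠ 0 := by rintro rfl; simp at hν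
  have hν1 : cj q ν ≠ 0 := by simpa using hν0
  obtain ⟨g, hg, e0, e1⟩ := All.frame2 hM hk (x := hf q w v • v)
    (y := ν⁻¹ • (w - hf q w v • v)) ⟨hv.smul _, by simp [v1, v2, mul_comm (hf q v w)]⟩
    ⟨(hw.sub (hv.smul _)).smul _, by
      simp only [hf_smul_left, hf_smul_right, hf_sub_left, hf_sub_right, hn, v1, cj_hf, map_inv₀]
      field_simp
      linear_combination -v2 - hν⟩ (by simp [v1])
  refine ⟨g, hg, ?_⟩
  rw [smul_add, su_smul_smul, e0, e1, smul_smul, mul_inv_cancel₀ hν0, one_smul, add_sub_cancel]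

theorem All.exists_unit_perp2' {M k : ℕ} (hM : M ≤ N) (hk : k + 4 ≤ M) {x y : Fin N → F}
    (hx : x ∈ UX N F q (Ico k M)) (hy : y ∈ UX N F q (Ico k M)) :
    ∃ v ∈ UX N F q (Ico k M), hf q v x = 0 ∧ hf q v y = 0 := by
  by_cases h : UAdj q x y
  · exact All.exists_unit_perp2 hM (by omega) hx hy h
  have h' : hf q x y * hf q y x = 1 := not_not.1 h
  by_cases h0 : y - hf q y x • x = 0
  · obtain ⟨g, hg, rfl⟩ := All.u_trans hM (by omega) hx
    have e : hf q (g • (ue (k + 1) : Fin N → F)) (g • ue k) = 0 := by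
      rw [hf_smul_smul, hf_ue_ne (by omega)]
    exact ⟨_, UX.act (ue_mem_UX (by simp only [mem_Ico]; omega) (by omega)) hg, e, by
      rw [sub_eq_zero.1 h0, hf_smul_right, e, mul_zero]⟩
  obtain ⟨u, hu, u1, u2⟩ := All.exists_unit_perp_iso1 hM hk hx (hy.1.sub (hx.1.smul _)) h0
    (by simp [hx.2, hy.2]; linear_combination -h') (by simp [hx.2])
  exact ⟨u, hu, u1, by simpa [u1] using u2⟩

/-- Triples lying in a translate of the four-dimensional block. -/
def Tri4 (N : ℕ) (F : Type*) [Field F] [Fintype F] (q : ℕ) [Fact (Fintype.card F = q ^ 2)]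
    (k : ℕ) (x y z : Fin N → F) : Prop :=
  ∃ g ∈ uFix N F q (Ico k N), USupp q (Ico k (k + 4)) (g • x) ∧ USupp q (Ico k (k + 4)) (g • y) ∧
    USupp q (Ico k (k + 4)) (g • z)

theorem tri4_of_perp {k : ℕ} (hk : k + 4 ≤ N) {x y z : Fin N → F} (hx : x ∈ UX N F q (Ico k N))
    (hy : y ∈ UX N F q (Ico k N)) (hz : USupp q (Ico k N) z) (h : hf q y x = 0) :
    Tri4 N F q k x y z := by
  obtain ⟨g, hg, rfl, rfl⟩ := All.frame2 le_rfl (by omega) hx hy h
  obtain ⟨p, hp, w, hw, e⟩ := All.u_move2 le_rfl (k := k + 2) (by omega)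
    (usupp_sub_ue (k := k + 1) (by omega) (usupp_sub_ue (k := k) (by omega)
      (hz.act (Subgroup.inv_mem _ hg))))
  have p0 : p⁻¹ • (ue k : Fin N → F) = ue k := Subgroup.inv_mem _ hp k (by simp)
  have p1 : p⁻¹ • (ue (k + 1) : Fin N → F) = ue (k + 1) := Subgroup.inv_mem _ hp _ (by simp)
  refine ⟨p⁻¹ * g⁻¹, Subgroup.mul_mem _ (uFix_mono (Ico_subset_Ico (by omega) le_rfl)
    (Subgroup.inv_mem _ hp)) (Subgroup.inv_mem _ hg), ?_, ?_, ?_⟩
  · rw [mul_smul, inv_smul_smul, p0]; exact usupp_ue (by simp)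
  · rw [mul_smul, inv_smul_smul, p1]; exact usupp_ue (by simp)
  · rw [← eq_inv_smul_iff, smul_sub, smul_sub, su_smul_smul, su_smul_smul, p0, p1, eq_sub_iff_add_eq,
      eq_sub_iff_add_eq] at e
    rw [mul_smul, ← e]
    exact ((hw.mono (Ico_subset_Ico (by omega) le_rfl)).add ((usupp_ue (by simp)).smul _)).add
      ((usupp_ue (by simp only [mem_Ico]; omega)).smul _)

theorem simplyConn4 (H : Type*) [Group H] {k : ℕ} (hk : k + 4 ≤ N) :
    SimplyConn H (UX N F q (Ico k N)) (fun _ _ => True) (Tri4 N F q k) := by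
  intro c hc hT
  have hx : ue k ∈ UX N F q (Ico k N) := ue_mem_UX (by simp only [mem_Ico]; omega) (by omega)
  refine ⟨fun y => c (ue k) y, fun y hy z hz _ => ?_⟩
  obtain ⟨v, hv, v1, v2⟩ := All.exists_unit_perp2' le_rfl hk hx hy
  simp only
  rw [← hT _ hx v hv y hy (tri4_of_perp hk hx hv hy.1 v1),
    ← hT _ hy v hv z hz (tri4_of_perp hk hy hv hz.1 v2),
    ← hT _ hx v hv z hz (tri4_of_perp hk hx hv hz.1 v1), mul_assoc, ← mul_assoc (c v y),
    hc v hv y hy trivial, one_mul]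

theorem stab_iso_le {k : ℕ} (hk : k + 4 ≤ N) {ν : F} (hν : ν * cj q ν = -1)
    (S : Subgroup (SU N F q)) (h1 : uFix N F q (Ico (k + 2) N) ≤ S)
    (h2 : ∀ g ∈ uFix N F q (Ico k (k + 3)), g • (ue k + ν • ue (k + 1) : Fin N → F) =
      ue k + ν • ue (k + 1) → g ∈ S)
    {p : SU N F q} (hp : p ∈ uFix N F q (Ico k N))
    (hp0 : p • (ue k + ν • ue (k + 1) : Fin N → F) = ue k + ν • ue (k + 1)) : p ∈ S := by
  have e0 : hf q (ue k : Fin N → F) (ue k) = 1 := hf_ue_self (by omega)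
  have e1 : hf q (ue (k + 1) : Fin N → F) (ue (k + 1)) = 1 := hf_ue_self (by omega)
  have hν0 : ν ≠ 0 := by rintro rfl; simp at hν
  have hw : USupp q (Ico k (k + 2)) (ue k + ν • ue (k + 1) : Fin N → F) :=
    (usupp_ue (by simp)).add ((usupp_ue (by simp)).smul _)
  have hww : hf q (ue k + ν • ue (k + 1) : Fin N → F) (ue k + ν • ue (k + 1)) = 0 := by
    simp [e0, e1, hf_ue_ne]; linear_combination hν
  have hew : hf q (ue k : Fin N → F) (ue k + ν • ue (k + 1)) = 1 := by simp [e0, hf_ue_ne]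
  have hfix : ∀ g : SU N F q, g • (ue k : Fin N → F) = ue k →
      g • (ue k + ν • ue (k + 1) : Fin N → F) = ue k + ν • ue (k + 1) →
      g • (ue (k + 1) : Fin N → F) = ue (k + 1) := by
    intro g g0 g1
    rw [smul_add, su_smul_smul, g0, add_right_inj] at g1
    exact smul_right_injective _ hν0 g1
  generalize (ue k + ν • ue (k + 1) : Fin N → F) = w at *
  have perp : ∀ u, USupp q (Ico (k + 2) N) u → hf q u w = 0 := fun u hu =>
    hf_eq_zero_of_usupp hu (hw.mono fun l hl => by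
      simp only [mem_Ico, mem_compl_iff] at hl ⊢; omega)
  have A0 : ∀ u c, USupp q (Ico k (k + 3)) u → SOK q w u c → uS w u c ∈ S := fun u c hu h =>
    h2 _ (uS_mem_uFix (hw.mono (Ico_subset_Ico le_rfl (by omega))) hu c) (uS_fix hww h.perp')
  have A1 : ∀ g ∈ uFix N F q (Ico (k + 2) N), ∀ u, (∀ c, SOK q w u c → uS w u c ∈ S) →
      ∀ c, SOK q w (g • u) c → uS w (g • u) c ∈ S := by
    intro g hg u hu c h
    have gw : g • w = w := uFix_smul_eq hg (hw.mono fun l hl => by
      simp only [mem_Ico, mem_compl_iff] at hl ⊢; omega)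
    have h' : SOK q w u c := by
      have := h.act g⁻¹
      rwa [inv_smul_smul, inv_smul_eq_iff.2 gw.symm] at this
    rw [← gw, ← uS_conj h']
    exact S.mul_mem (S.mul_mem (h1 hg) (hu c h')) (S.inv_mem (h1 hg))
  have A2 : ∀ u u', hf q u w = 0 → (∀ c, SOK q w u c → uS w u c ∈ S) →
      (∀ c, SOK q w u' c → uS w u' c ∈ S) → ∀ c, SOK q w (u + u') c → uS w (u + u') c ∈ S := by
    intro u u' h0 hu hu' c h
    obtain ⟨c1, hc1⟩ := exists_trace_eq q (cj_hf u u)
    have s1 : SOK q w u c1 := ⟨hww, h0, hc1⟩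
    have s2 : SOK q w u' (c - c1 - hf q u' u) := ⟨hww, by simpa [h0] using h.perp, by
      have := h.tr
      simp only [map_sub, cj_hf, hf_add_left, hf_add_right] at this ⊢
      linear_combination this - hc1⟩
    have := S.mul_mem (hu _ s1) (hu' _ s2)
    rwa [uS_mul s1 s2, show c1 + (c - c1 - hf q u' u) + hf q u' u = c by ring] at this
  have A3 : ∀ (b : F) c, SOK q w (b • ue (k + 2)) c → uS w (b • ue (k + 2)) c ∈ S := fun b c =>
    A0 _ c ((usupp_ue (by simp)).smul b)
  have A4 : ∀ u, USupp q (Ico (k + 2) N) u → ∀ c, SOK q w u c → uS w u c ∈ S := by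
    intro u hu
    obtain ⟨g, hg, u', hu', rfl⟩ := All.u_move2 le_rfl (by omega) hu
    refine A1 g hg u' ?_
    rw [usupp_two (by omega) hu']
    refine A2 _ _ (perp _ ((usupp_ue (by simp only [mem_Ico]; omega)).smul _)) (A3 _) ?_
    obtain ⟨g', hg', e⟩ := All.u_trans le_rfl (k := k + 2) (by omega)
      (ue_mem_UX (F := F) (q := q) (N := N) (k := k + 2 + 1) (by simp only [mem_Ico]; omega)
        (by omega))
    rw [← e, ← su_smul_smul]
    exact A1 g' hg' _ (A3 _)
  obtain ⟨c, hc, e⟩ := exists_siegel (r := ue k) (r' := p • ue k) hww (by simp)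
    (hf_smul_ue_of_fix hp0 _) (by rw [hew]; exact one_ne_zero)
  have hu : USupp q (Ico k N) ((hf q (ue k) w)⁻¹ • (p • ue k - ue k : Fin N → F)) :=
    (((usupp_ue (by simp only [mem_Ico]; omega)).act hp).sub
      (usupp_ue (by simp only [mem_Ico]; omega))).smul _
  generalize (hf q (ue k) w)⁻¹ • (p • ue k - ue k : Fin N → F) = u at hc e hu
  have hu2 := usupp_sub_ue (k := k + 1) (by omega) (usupp_sub_ue (k := k) (by omega) hu)
  have hσ : uS w u c ∈ S := by
    generalize hf q (u - hf q u (ue k) • ue k) (ue (k + 1)) = b at hu2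
    generalize hf q u (ue k) = a at hu2
    have eu : u = (u - a • ue k - b • ue (k + 1)) + (a • ue k + b • ue (k + 1)) := by abel
    rw [eu] at hc ⊢
    exact A2 _ _ (perp _ hu2) (A4 _ hu2) (fun c => A0 _ c
      (((usupp_ue (by simp)).smul _).add ((usupp_ue (by simp)).smul _))) c hc
  have hσ' := uS_mem_uFix (hw.mono (Ico_subset_Ico le_rfl (by omega))) hu c
  have hσw : (uS w u c : SU N F q) • w = w := uS_fix hww hc.perp'
  generalize (uS w u c : SU N F q) = σ at e hσ hσ' hσw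
  have a0 : (σ⁻¹ * p) • (ue k : Fin N → F) = ue k := by rw [mul_smul, ← e, inv_smul_smul]
  have := S.mul_mem hσ (h1 (mem_uFix_succ (mem_uFix_succ (Subgroup.mul_mem _
    (Subgroup.inv_mem _ hσ') hp) a0) (hfix _ a0 (by
      rw [mul_smul, hp0, inv_smul_eq_iff, hσw]))))
  rwa [mul_inv_cancel_left] at this

theorem disj_Ico {a b c d : ℕ} (h : b ≤ c) : Disjoint (Ico a b) (Ico c d) := by
  rw [Set.disjoint_left]
  intro j h1 h2
  simp only [mem_Ico] at h1 h2
  omega

theorem u_step4 {k : ℕ} (hk : k + 5 ≤ N) {ρ Φ : SU N F q → H}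
    (hρ : HomOn (uFix N F q (Ico k (k + 4))) ρ) (hΦ : HomOn (uFix N F q (Ico (k + 1) N)) Φ)
    (hag : ∀ g ∈ uFix N F q (Ico (k + 1) (k + 4)), Φ g = ρ g)
    (hc2 : ∀ x ∈ uFix N F q (Ico k (k + 2)), ∀ y ∈ uFix N F q (Ico (k + 2) N),
      Φ y * ρ x = ρ x * Φ y)
    (hc3 : ∀ x ∈ uFix N F q (Ico k (k + 3)), ∀ y ∈ uFix N F q (Ico (k + 3) N),
      Φ y * ρ x = ρ x * Φ y) :
    ∃ Φ' : SU N F q → H, HomOn (uFix N F q (Ico k N)) Φ' ∧
      (∀ g ∈ uFix N F q (Ico (k + 1) N), Φ' g = Φ g) ∧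
      ∀ g ∈ uFix N F q (Ico k (k + 4)), Φ' g = ρ g := by
  have he : ∀ M, k < M → ue k ∈ UX N F q (Ico k M) := fun M hM =>
    ue_mem_UX (by simp only [mem_Ico]; omega) (by omega)
  have mono : ∀ {a b c d : ℕ}, c ≤ a → b ≤ d → uFix N F q (Ico a b) ≤ uFix N F q (Ico c d) :=
    fun h1 h2 => uFix_mono (Ico_subset_Ico h1 h2)
  have e00 : hf q (ue k : Fin N → F) (ue k) = 1 := hf_ue_self (by omega)
  have e11 : hf q (ue (k + 1) : Fin N → F) (ue (k + 1)) = 1 := hf_ue_self (by omega)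
  -- elements in the small block and commuting elements are good
  have G1 : ∀ l ∈ uFix N F q (Ico k (k + 4)), ∀ p ∈ uFix N F q (Ico (k + 1) (k + 4)),
      p • l • (ue k : Fin N → F) = l • ue k → p ∈ hΦ.goodSub l (ρ l) := by
    intro l hl p hp e
    have hp' := mono (Nat.le_succ k) le_rfl hp
    have h1 : l⁻¹ * p * l ∈ uFix N F q (Ico (k + 1) (k + 4)) :=
      mem_uFix_succ (Subgroup.mul_mem _ (Subgroup.mul_mem _ (Subgroup.inv_mem _ hl) hp') hl)
        (by rw [mul_smul, mul_smul, e, inv_smul_smul])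
    refine ⟨mono le_rfl (by omega) hp, mono le_rfl (by omega) h1, ?_⟩
    rw [hag p hp, hag _ h1, ← hρ.map_mul hp' hl, ← hρ.map_mul hl (mono (Nat.le_succ k) le_rfl h1)]
    congr 1
    group
  have G2 : ∀ j, k + 1 ≤ j → ∀ l ∈ uFix N F q (Ico k j), ∀ p ∈ uFix N F q (Ico j N),
      Φ p * ρ l = ρ l * Φ p → p ∈ hΦ.goodSub l (ρ l) := by
    intro j hj l hl p hp e
    have h1 : l⁻¹ * p * l = p := by
      rw [mul_assoc, ← uFix_comm (disj_Ico le_rfl) hl hp, inv_mul_cancel_left]
    exact ⟨mono hj le_rfl hp, by rw [h1]; exact mono hj le_rfl hp, by rw [h1, e]⟩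
  have key : ∀ y ∈ UX N F q (Ico k (k + 4)), ∀ p ∈ uFix N F q (Ico (k + 1) N),
      USupp q (Ico k (k + 4)) (p • y) → ∃ l ∈ uFix N F q (Ico k (k + 4)),
      (∀ p ∈ uFix N F q (Ico (k + 1) N), p • l • (ue k : Fin N → F) = l • ue k →
        p ∈ hΦ.goodSub l (ρ l)) ∧
      ∃ m ∈ uFix N F q (Ico (k + 1) (k + 4)), ∃ m' ∈ uFix N F q (Ico (k + 1) (k + 4)),
        m • l • (ue k : Fin N → F) = y ∧ m' • l • (ue k : Fin N → F) = p • y := by
    intro y hy p hp hpy
    have hp0 : p • (ue k : Fin N → F) = ue k := hp k (by simp)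
    have hw := usupp_sub_ue (by omega) hy.1
    have hw' := usupp_sub_ue (by omega) hpy
    rw [hf_smul_ue_of_fix hp0, ← hp0, ← su_smul_smul, ← smul_sub, hp0] at hw'
    have hn := hf_sub_ue (q := q) (k := k) (by omega) y
    rw [hy.2, ← cj_hf y (ue k)] at hn
    have ey : y = hf q y (ue k) • ue k + (y - hf q y (ue k) • ue k) := by abel
    generalize y - hf q y (ue k) • ue k = w at hw hw' hn ey
    generalize hf q y (ue k) = a at hn ey
    subst ey
    have fin : ∀ (w0 : Fin N → F) (m : SU N F q), m ∈ uFix N F q (Ico (k + 1) (k + 4)) →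
        m • (a • ue k + w0) = a • ue k + m • w0 := fun w0 m hm => by
      rw [smul_add, su_smul_smul, hm k (by simp)]
    rw [smul_add, su_smul_smul, hp0]
    by_cases hn0 : hf q w w ≠ 0
    · obtain ⟨b, hb, h1⟩ := exists_normalize hn0
      obtain ⟨m, hm, em⟩ := All.u_trans (M := k + 4) (by omega) (by omega) ⟨hw.smul b⁻¹, h1⟩
      obtain ⟨m', hm', em'⟩ := All.u_trans (M := k + 4) (by omega) (by omega)
        ⟨hw'.smul b⁻¹, by rw [← su_smul_smul, hf_smul_smul, h1]⟩
      obtain ⟨l, hl, el⟩ := exists_B_smul (N := N) (k := k) (by omega) a b (by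
        have hb' : cj q b ≠ 0 := by simpa using hb
        simp only [hf_smul_left, hf_smul_right, map_inv₀] at h1
        field_simp at h1
        linear_combination -h1 + hn)
      refine ⟨l, mono le_rfl (by omega) hl, fun p hp e => ?_, m, hm, m', hm', ?_, ?_⟩
      · rw [el, smul_add, su_smul_smul, su_smul_smul, hp k (by simp), add_right_inj] at e
        have := mem_uFix_succ hp (smul_right_injective _ hb e)
        exact G2 (k + 2) (by omega) l hl p this (hc2 l hl p this)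
      · rw [el, fin _ m hm, su_smul_smul, em, smul_smul, mul_inv_cancel₀ hb, one_smul]
      · rw [el, fin _ m' hm', su_smul_smul, em', smul_smul, mul_inv_cancel₀ hb, one_smul]
    rw [not_not] at hn0
    by_cases h0 : w = 0
    · subst h0
      obtain ⟨l, hl, el⟩ := exists_B_smul (N := N) (k := k) (by omega) a 0 (by
        rw [hn0] at hn; linear_combination hn)
      rw [zero_smul] at el
      refine ⟨l, mono le_rfl (by omega) hl, fun p hp _ => ?_, 1, one_mem _, 1, one_mem _,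
        by rw [el, one_smul], by rw [el, one_smul, smul_zero]⟩
      refine All.u_gen_succ le_rfl (k := k + 1) (by omega) _
        (fun x hx => G2 (k + 2) (by omega) l hl x hx (hc2 l hl x hx))
        (fun x hx => G1 l (mono le_rfl (by omega) hl) x hx ?_) hp
      rw [el, fin _ x hx, smul_zero]
    · obtain ⟨ν, hν⟩ := exists_norm_eq (F := F) q (s := -1) (by simp)
      obtain ⟨m, hm, em⟩ := All.iso_frame (M := k + 4) (by omega) (by omega) hν hw h0 hn0
      obtain ⟨m', hm', em'⟩ := All.iso_frame (M := k + 4) (by omega) (by omega) hν hw'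
        (fun h => h0 (by rw [← inv_smul_smul p w, h, smul_zero])) (by simpa using hn0)
      obtain ⟨l, hl, el⟩ := All.u_trans (M := k + 3) (k := k) (by omega) (by omega)
        (y := (a • ue k + (ue (k + 1) + ν • ue (k + 1 + 1)) : Fin N → F))
        ⟨((usupp_ue (by simp)).smul _).add ((usupp_ue (by simp)).add
          ((usupp_ue (by simp only [mem_Ico]; omega)).smul _)),
          by rw [← hf_smul_smul m, fin _ m hm, em, hy.2]⟩
      refine ⟨l, mono le_rfl (by omega) hl, fun p hp e => ?_, m, hm, m', hm',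
        by rw [el, fin _ m hm, em], by rw [el, fin _ m' hm', em']⟩
      rw [el, smul_add, su_smul_smul, hp k (by simp), add_right_inj] at e
      refine stab_iso_le (k := k + 1) (by omega) hν _
        (fun x hx => G2 (k + 3) (by omega) l hl x hx (hc3 l hl x hx))
        (fun x hx e' => G1 l (mono le_rfl (by omega) hl) x hx ?_) hp e
      rw [el, fin _ x hx, e']
  obtain ⟨Φ', h1, h2, h3⟩ := exists_homOn_complete (uFix N F q (Ico k N))
    (uFix N F q (Ico k (k + 4))) (ue k : Fin N → F) (UX N F q (Ico k N)) (Tri4 N F q k)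
    (mono le_rfl (by omega)) (fun x hx => All.u_trans le_rfl (by omega) hx)
    (fun g hg => UX.act (he N (by omega)) hg)
    (fun g hg x y z ⟨h, hh, h1, h2, h3⟩ => ⟨h * g⁻¹, mul_mem hh (inv_mem hg),
      by rwa [mul_smul, inv_smul_smul], by rwa [mul_smul, inv_smul_smul],
      by rwa [mul_smul, inv_smul_smul]⟩) Φ ρ
    (hΦ.mono fun g hg => mem_uFix_succ hg.1 hg.2) hρ
    (fun y hy => by
      obtain ⟨p, hp, l, hl, e⟩ := All.u_nb3 le_rfl (by omega) hy
      exact ⟨p, mono (by omega) le_rfl hp, hp k (by simp), l, mono le_rfl (by omega) hl, e⟩)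
    (fun r hr r' hr' p hp hp0 p' hp' hp0' e => by
      replace hp := mem_uFix_succ hp hp0
      replace hp' := mem_uFix_succ hp' hp0'
      have e1 : p • r • (ue k : Fin N → F) = r' • ue k := by rw [← mul_smul, e, mul_smul, hp0']
      obtain ⟨l, hl, hgood, m, hm, m', hm', a1, a2⟩ := key _ (UX.act (he _ (by omega)) hr) p hp
        (by rw [e1]; exact (UX.act (he _ (by omega)) hr').1)
      have b1 := mono (Nat.le_succ k) le_rfl hm
      have b2 := mono (Nat.le_succ k) le_rfl hm'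
      have c1 := mono (d := N) le_rfl (by omega) hm
      have c2 := mono (d := N) le_rfl (by omega) hm'
      have hn : (m * l)⁻¹ * r ∈ uFix N F q (Ico (k + 1) (k + 4)) :=
        mem_uFix_succ (mul_mem (inv_mem (mul_mem b1 hl)) hr)
          (by rw [mul_smul, ← a1, ← mul_smul m, inv_smul_smul])
      have hn' : (m' * l)⁻¹ * r' ∈ uFix N F q (Ico (k + 1) (k + 4)) :=
        mem_uFix_succ (mul_mem (inv_mem (mul_mem b2 hl)) hr')
          (by rw [mul_smul, ← e1, ← a2, ← mul_smul m', inv_smul_smul])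
      obtain ⟨g1, g2, g3⟩ := hgood (m'⁻¹ * p * m) (mul_mem (mul_mem (inv_mem c2) hp) c1)
        (by rw [mul_smul, mul_smul, a1, ← a2, inv_smul_smul])
      have er : r = m * l * ((m * l)⁻¹ * r) := by group
      have er' : r' = m' * l * ((m' * l)⁻¹ * r') := by group
      generalize (m * l)⁻¹ * r = n at hn er
      generalize (m' * l)⁻¹ * r' = n' at hn' er'
      have d1 := mono (Nat.le_succ k) le_rfl hn
      have d2 := mono (Nat.le_succ k) le_rfl hn'
      have f1 := mono (d := N) le_rfl (by omega) hn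
      have f2 := mono (d := N) le_rfl (by omega) hn'
      have ep : p' = n'⁻¹ * (l⁻¹ * (m'⁻¹ * p * m) * l) * n := by
        rw [eq_inv_mul_of_mul_eq e.symm, er, er']; group
      rw [hΦ.map_mul (mul_mem (inv_mem c2) hp) c1, hΦ.map_mul (inv_mem c2) hp,
        hΦ.map_inv c2] at g3
      rw [ep, hΦ.map_mul (mul_mem (inv_mem f2) g2) f1, hΦ.map_mul (inv_mem f2) g2, hΦ.map_inv f2,
        er, er', hρ.map_mul (mul_mem b1 hl) d1, hρ.map_mul b1 hl, hρ.map_mul (mul_mem b2 hl) d2,
        hρ.map_mul b2 hl, ← hag m hm, ← hag m' hm', ← hag n hn, ← hag n' hn']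
      calc _ = Φ m' * ((Φ m')⁻¹ * Φ p * Φ m * ρ l) * Φ n := by group
        _ = _ := by rw [g3]; group)
    (fun y hy z hz ⟨g, hg, h1, h2, h3⟩ => by
      obtain ⟨r0, hr0, e0⟩ := All.u_trans (M := k + 4) (by omega) (by omega)
        ⟨h1, by simpa using e00⟩
      obtain ⟨r, hr, e⟩ := All.u_trans (M := k + 4) (by omega) (by omega)
        (UX.act ⟨h2, by simpa using hy.2⟩ (inv_mem hr0))
      obtain ⟨r', hr', e'⟩ := All.u_trans (M := k + 4) (by omega) (by omega)
        (UX.act ⟨h3, by simpa using hz.2⟩ (inv_mem hr0))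
      refine ⟨g⁻¹ * r0, mul_mem (inv_mem hg) (mono le_rfl (by omega) hr0),
        by rw [mul_smul, e0, inv_smul_smul], r, hr, r', hr', ?_, ?_⟩
      · rw [mul_smul, mul_smul, e, smul_inv_smul, inv_smul_smul]
      · rw [mul_smul, mul_smul, e', smul_inv_smul, inv_smul_smul])
    (simplyConn4 H (by omega))
  exact ⟨Φ', h1, fun g hg => h2 g (mono (by omega) le_rfl hg) (hg k (by simp)), h3⟩

/-- The amalgam theorem. -/
theorem u_amalgam4 (hN : 4 ≤ N) (α β : ℕ → SU N F q → H)
    (hβ : ∀ i, i + 4 ≤ N → HomOn (uFix N F q (Ico i (i + 4))) (β i))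
    (h0 : ∀ i, i + 4 ≤ N → ∀ g ∈ uFix N F q (Ico i (i + 3)), β i g = α i g)
    (h1 : ∀ i, i + 4 ≤ N → ∀ g ∈ uFix N F q (Ico (i + 1) (i + 4)), β i g = α (i + 1) g)
    (c1 : ∀ i j, i + 2 ≤ j → j + 3 ≤ N → ∀ x ∈ uFix N F q (Ico i (i + 2)),
      ∀ y ∈ uFix N F q (Ico j (j + 3)), α j y * α i x = α i x * α j y)
    (c2 : ∀ i j, i + 3 ≤ j → j + 3 ≤ N → ∀ x ∈ uFix N F q (Ico i (i + 3)),
      ∀ y ∈ uFix N F q (Ico j (j + 3)), α j y * α i x = α i x * α j y)
    (c3 : ∀ i j, i + 2 ≤ j → j + 3 ≤ N → ∀ x ∈ uFix N F q (Ico i (i + 3)),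
      ∀ y ∈ uFix N F q (Ico (j + 1) (j + 3)), α j y * α i x = α i x * α j y) :
    ∃ Φ : SU N F q →* H, ∀ i, i + 3 ≤ N → ∀ g ∈ uFix N F q (Ico i (i + 3)), Φ g = α i g := by
  have key : ∀ d k : ℕ, k + 4 + d = N → ∃ Φ : SU N F q → H, HomOn (uFix N F q (Ico k N)) Φ ∧
      ∀ i, k ≤ i → i + 3 ≤ N → ∀ g ∈ uFix N F q (Ico i (i + 3)), Φ g = α i g := by
    intro d
    induction d with
    | zero =>
      intro k hk
      refine ⟨β k, by have := hβ k (by omega); rwa [show k + 4 = N from hk] at this,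
        fun i hi hi' g hg => ?_⟩
      rcases (show i = k ∨ i = k + 1 by omega) with rfl | rfl
      exacts [h0 i (by omega) g hg, h1 k (by omega) g hg]
    | succ d ih =>
      intro k hk
      obtain ⟨Φ, a1, a2⟩ := ih (k + 1) (by omega)
      obtain ⟨Φ', b1, b2, b3⟩ := u_step4 (k := k) (by omega) (hβ k (by omega)) a1
        (fun g hg => by rw [a2 (k + 1) le_rfl (by omega) g hg, h1 k (by omega) g hg])
        (fun x hx y hy => by
          refine (All.u_gen3 le_rfl (a1.commSub' (β k x)) (k := k + 2) (by omega)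
            (fun j hj hj' z hz => ?_) hy).2
          refine ⟨uFix_mono (Ico_subset_Ico (by omega) (by omega)) hz, ?_⟩
          rw [a2 j (by omega) hj' z hz, h0 k (by omega) x
            (uFix_mono (Ico_subset_Ico le_rfl (by omega)) hx)]
          exact c1 k j hj hj' x hx z hz)
        (fun x hx y hy => by
          rw [h0 k (by omega) x hx]
          by_cases hd : d = 0
          · obtain rfl : N = k + 2 + 3 := by omega
            rw [a2 (k + 2) (by omega) le_rfl y (uFix_mono (Ico_subset_Ico (by omega) le_rfl) hy)]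
            exact c3 k (k + 2) le_rfl le_rfl x hx y hy
          refine (All.u_gen3 le_rfl (a1.commSub' (α k x)) (k := k + 3) (by omega)
            (fun j hj hj' z hz => ?_) hy).2
          refine ⟨uFix_mono (Ico_subset_Ico (by omega) (by omega)) hz, ?_⟩
          rw [a2 j (by omega) hj' z hz]
          exact c2 k j hj hj' x hx z hz)
      refine ⟨Φ', b1, fun i hi hi' g hg => ?_⟩
      by_cases hik : i = k
      · subst hik
        rw [b3 g (uFix_mono (Ico_subset_Ico le_rfl (by omega)) hg), h0 i (by omega) g hg]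
      · rw [b2 g (uFix_mono (Ico_subset_Ico (by omega) hi') hg), a2 i (by omega) hi' g hg]
  obtain ⟨Φ, a1, a2⟩ := key (N - 4) 0 (by omega)
  have e : uFix N F q (Ico 0 N) = ⊤ := eq_top_iff.2 fun g _ => mem_uFix_univ g
  rw [e] at a1
  exact ⟨a1.toHomTop, fun i hi g hg => a2 i (Nat.zero_le _) hi g hg⟩

end Cfsg.Agent.Amalg
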