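import Mathlib
import Cfsg.Agent.Amalg.UFrame
import Cfsg.Agent.Amalg.UAmalg3

/-!
Weak Phan systems of rank three inside quotients of `SU₄(3)` are standard.
-/

set_option autoImplicit false

namespace Cfsg.Agent.Amalg

open Matrix Set MatrixGroups Cfsg.Agent.Pres

/-- Generators satisfying the relations of `SL₂(3)`. -/
structure Gen3 {Γ : Type*} [Group Γ] (a b : Γ) : Prop where
  ha : a ^ 3 = 1
  hb : b ^ 3 = 1
  braid : a * b * a = b * a * b

namespace Gen3

variable {Γ : Type*} [Group Γ] {a b : Γ}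

theorem sq (h : Gen3 a b) : (a * b * a) ^ 2 * (a * b * a) ^ 2 = 1 := by
  have ha : a * a = a⁻¹ := by rw [eq_inv_iff_mul_eq_one, ← pow_three', h.ha]
  have hb : b * b = b⁻¹ := by rw [eq_inv_iff_mul_eq_one, ← pow_three', h.hb]
  have e1 : (a * b * a) ^ 2 = (a⁻¹ * b) ^ 2 := by
    calc (a * b * a) ^ 2 = a * b * a * (a * b * a) := _root_.sq _
      _ = a * b * a * (b * a * b) := by rw [← h.braid]
      _ = a * (b * a * b) * a * b := by group
      _ = a * (a * b * a) * a * b := by rw [h.braid]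
      _ = (a * a) * b * (a * a) * b := by group
      _ = _ := by rw [ha, _root_.sq]; group
  have e2 : (a * b * a) ^ 2 = (b⁻¹ * a) ^ 2 := by
    calc (a * b * a) ^ 2 = a * b * a * (a * b * a) := _root_.sq _
      _ = b * a * b * (a * b * a) := by rw [← h.braid]
      _ = b * (a * b * a) * b * a := by group
      _ = b * (b * a * b) * b * a := by rw [h.braid]
      _ = (b * b) * a * (b * b) * a := by group
      _ = _ := by rw [hb, _root_.sq]; group
  nth_rewrite 1 [e1]
  rw [e2, _root_.sq, _root_.sq]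
  group

theorem comm_a (h : Gen3 a b) : (a * b * a) ^ 2 * a = a * (a * b * a) ^ 2 := by
  calc (a * b * a) ^ 2 * a = a * (b * a * (a * b * a) * a) := by rw [_root_.sq]; group
    _ = a * (b * a * (b * a * b) * a) := by rw [h.braid]
    _ = a * ((b * a * b) * (a * b * a)) := by group
    _ = _ := by rw [← h.braid, _root_.sq]

theorem comm_b (h : Gen3 a b) : (a * b * a) ^ 2 * b = b * (a * b * a) ^ 2 := by
  calc (a * b * a) ^ 2 * b = (b * a * b) * (b * a * b) * b := by rw [_root_.sq, h.braid]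
    _ = b * (a * b * (b * a * b) * b) := by group
    _ = b * (a * b * (a * b * a) * b) := by rw [h.braid]
    _ = b * ((a * b * a) * (b * a * b)) := by group
    _ = _ := by rw [← h.braid, _root_.sq]

theorem conj (h : Gen3 a b) (g : Γ) : Gen3 (g * a * g⁻¹) (g * b * g⁻¹) :=
  ⟨by rw [conj_pow, h.ha]; simp, by rw [conj_pow, h.hb]; simp, by
    calc _ = g * (a * b * a) * g⁻¹ := by group
      _ = _ := by rw [h.braid]; group⟩

end Gen3

section Lift

variable {Γ G : Type*} [Group Γ] [Group G] {g : Γ →* G}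
  (hker : ∀ z, g z = 1 → (∀ x, z * x = x * z) ∧ z ^ 4 = 1)
include hker

theorem lift3 {u : G} (hu : u ∈ g.range) (h3 : u ^ 3 = 1) : ∃ x, g x = u ∧ x ^ 3 = 1 := by
  obtain ⟨x, rfl⟩ := hu
  refine ⟨x ^ 4, ?_, ?_⟩
  · rw [map_pow, pow_succ, h3, one_mul]
  · rw [← pow_mul, mul_comm, pow_mul]
    exact (hker _ (by rw [map_pow, h3])).2

theorem uniq3 {x y : Γ} (h : g x = g y) (hx : x ^ 3 = 1) (hy : y ^ 3 = 1) : x = y := by
  obtain ⟨h1, h2⟩ := hker (x * y⁻¹) (by rw [map_mul, map_inv, h, mul_inv_cancel])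
  have h3 : (x * y⁻¹) ^ 3 = 1 := by
    have : (x * y⁻¹ * y) ^ 3 = (x * y⁻¹) ^ 3 * y ^ 3 := Commute.mul_pow (h1 y) 3
    rwa [inv_mul_cancel_right, hx, hy, mul_one, eq_comm] at this
  rw [pow_succ, h3, one_mul, mul_inv_eq_one] at h2
  exact h2

theorem comm3 {x y : Γ} (hx : x ^ 3 = 1) (h : g x * g y = g y * g x) : x * y = y * x := by
  have := uniq3 hker (x := y * x * y⁻¹) (y := x) (by
    rw [map_mul, map_mul, map_inv, ← h, mul_inv_cancel_right]) (by rw [conj_pow, hx]; simp) hx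
  exact (mul_inv_eq_iff_eq_mul.1 this).symm

theorem lift_gen3 {u v : G} (hu : u ∈ g.range) (hv : v ∈ g.range) (h : Gen3 u v) :
    ∃ a b, g a = u ∧ g b = v ∧ Gen3 a b := by
  obtain ⟨a, rfl, ha⟩ := lift3 hker hu h.ha
  obtain ⟨b, rfl, hb⟩ := lift3 hker hv h.hb
  refine ⟨a, b, rfl, rfl, ha, hb, ?_⟩
  have := uniq3 hker (x := (a * b) * a * (a * b)⁻¹) (y := b) (by
    simp only [map_mul, map_inv]
    rw [h.braid]; group) (by rw [conj_pow, ha]; simp) hb
  rw [mul_inv_eq_iff_eq_mul] at this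
  rw [this, mul_assoc]

end Lift

variable {F : Type*} [Field F] [Fintype F] {q : ℕ} [hF : Fact (Fintype.card F = q ^ 2)]
  {N : ℕ}

/-- The element `-1` of `SU₂`. -/
def suM1 : SU 2 F q := su2 (-1) 0 (by simp)

/-- The Weyl element of `SU₂`. -/
def suW : SU 2 F q := su2 0 1 (by simp)

theorem su2_invol (h2 : (2 : F) ≠ 0) {x : SU 2 F q} (hx : x * x = 1) : x = 1 ∨ x = suM1 := by
  have h := congrArg suM hx
  rw [suM_mul, suM_one, su2_eq x, suM_su2] at h
  have hn := su2_norm x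
  have h00 := congrFun (congrFun h 0) 0
  have h10 := congrFun (congrFun h 1) 0
  simp [Matrix.mul_apply, Fin.sum_univ_two] at h00 h10
  have hb : suM x 1 0 = 0 := by
    by_contra hb
    have : suM x 0 0 + cj q (suM x 0 0) = 0 :=
      mul_left_cancel₀ hb (by linear_combination h10)
    apply h2
    linear_combination -h00 - hn + suM x 0 0 * this
  have ha : (suM x 0 0 - 1) * (suM x 0 0 + 1) = 0 := by
    rw [hb] at h00
    linear_combination h00
  rcases mul_eq_zero.1 ha with ha | ha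
  · left
    apply su_ext
    rw [su2_eq x, suM_su2, hb, sub_eq_zero.1 ha, suM_one]
    ext i j
    fin_cases i <;> fin_cases j <;> simp
  · right
    apply su_ext
    rw [su2_eq x, suM_su2, hb, eq_neg_of_add_eq_zero_left ha, suM1, suM_su2]

theorem suM1_sq : (suM1 : SU 2 F q) * suM1 = 1 := by
  apply su_ext
  rw [suM_mul, suM1, suM_su2, suM_one]
  ext i j
  fin_cases i <;> fin_cases j <;> simp [Matrix.mul_apply, Fin.sum_univ_two]

theorem noncomm01 (h2 : (2 : F) ≠ 0) {G : Type*} [Group G] {φ : SU 3 F q →* G}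
    (h : φ.ker ≤ Subgroup.center (SU 3 F q)) :
    φ (i12 suM1) * φ (i01 suW) ≠ φ (i01 suW) * φ (i12 suM1) := by
  intro e
  have hk : (i01 suW * i12 suM1)⁻¹ * (i12 suM1 * i01 suW) ∈ φ.ker := by
    rw [MonoidHom.mem_ker, map_mul, map_inv, map_mul, map_mul, e, inv_mul_cancel]
  obtain ⟨l, hl⟩ := center_scalar3 (h hk)
  have h1 := hl (ue 0)
  have h3 := hl (ue 2)
  rw [mul_smul, inv_smul_eq_iff, su_smul_smul] at h1 h3
  have a1 := congrFun h1 1
  have a3 := congrFun h3 2
  simp [su_smul_def, suM_mul, suM_i01, suM_i12, suM1, suW, suM_su2, ue, mulVec, dotProduct,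
    Fin.sum_univ_three, Matrix.mul_apply] at a1 a3
  apply h2
  linear_combination -a1 + a3

theorem noncomm12 (h2 : (2 : F) ≠ 0) {G : Type*} [Group G] {φ : SU 3 F q →* G}
    (h : φ.ker ≤ Subgroup.center (SU 3 F q)) :
    φ (i01 suM1) * φ (i12 suW) ≠ φ (i12 suW) * φ (i01 suM1) := by
  intro e
  have hk : (i12 suW * i01 suM1)⁻¹ * (i01 suM1 * i12 suW) ∈ φ.ker := by
    rw [MonoidHom.mem_ker, map_mul, map_inv, map_mul, map_mul, e, inv_mul_cancel]
  obtain ⟨l, hl⟩ := center_scalar3 (h hk)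
  have h1 := hl (ue 0)
  have h3 := hl (ue 1)
  rw [mul_smul, inv_smul_eq_iff, su_smul_smul] at h1 h3
  have a1 := congrFun h1 0
  have a3 := congrFun h3 2
  simp [su_smul_def, suM_mul, suM_i01, suM_i12, suM1, suW, suM_su2, ue, mulVec, dotProduct,
    Fin.sum_univ_three, Matrix.mul_apply] at a1 a3
  apply h2
  linear_combination a3 + a1

/-- `z` is `-1` on the coordinates in `s` and `1` on the others. -/
def DiagInv (z : SU N F q) (s : Set ℕ) : Prop :=
  (∀ l ∈ s, z • (ue l : Fin N → F) = -ue l) ∧ ∀ l ∉ s, z • (ue l : Fin N → F) = ue l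

theorem DiagInv.usupp_of_neg (h2 : (2 : F) ≠ 0) {z : SU N F q} {s : Set ℕ} (h : DiagInv z s)
    {v : Fin N → F} (hv : z • v = -v) : USupp q s v := by
  intro l hl
  have := hf_smul_ue_of_fix (h.2 l hl) v
  rw [hv, hf_neg_left] at this
  exact mul_left_cancel₀ h2 (by linear_combination -this)

theorem DiagInv.usupp_of_fix (h2 : (2 : F) ≠ 0) {z : SU N F q} {s : Set ℕ} (h : DiagInv z s)
    {v : Fin N → F} (hv : z • v = v) : USupp q sᶜ v := by
  intro l hl
  have := hf_smul_smul z v (ue l)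
  rw [hv, h.1 l (by simpa using hl), hf_neg_right] at this
  exact mul_left_cancel₀ h2 (by linear_combination -this)

theorem DiagInv.smul_neg {z : SU N F q} {s : Set ℕ} (h : DiagInv z s) {v : Fin N → F}
    (hv : USupp q s v) : z • v = -v := by
  apply vec_ext (q := q)
  intro l
  by_cases hl : l ∈ s
  · have := hf_smul_smul z v (ue l)
    rw [h.1 l hl, hf_neg_right] at this
    rw [hf_neg_left, ← this, neg_neg]
  · rw [hf_smul_ue_of_fix (h.2 l hl), hf_neg_left, hv l hl, neg_zero]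

theorem DiagInv.smul_fix {z : SU N F q} {s : Set ℕ} (h : DiagInv z s) {v : Fin N → F}
    (hv : USupp q sᶜ v) : z • v = v := uFix_smul_eq (s := s) h.2 hv

theorem diagInv_suM1 {k : ℕ} (hk : k + 2 ≤ N) :
    DiagInv (suEmb (ivE 2 k hk) suM1 : SU N F q) (Ico k (k + 2)) := by
  refine ⟨fun l hl => ?_, (mem_uFix_Ico 2 k hk _).2 ⟨_, rfl⟩⟩
  simp only [mem_Ico] at hl
  rcases (show l = k ∨ l = k + 1 by omega) with rfl | rfl
  · rw [suM1, suEmb_su2_smul]; simp
  · rw [suM1, suEmb_su2_smul']; simp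

theorem exists_unit_eigen (h2 : (2 : F) ≠ 0) {z : SU N F q} (hz : z * z = 1) {s : Set ℕ}
    (hs : ∀ v : Fin N → F, USupp q s v → USupp q s (z • v)) {e : F} (he : e * e = 1)
    (he' : cj q e = e) {v : Fin N → F} (hv : USupp q s v) (hv' : z • v ≠ (-e) • v) :
    ∃ x ∈ UX N F q s, z • x = e • x := by
  have key : ∀ u : Fin N → F, z • (u + e • z • u) = e • (u + e • z • u) := fun u => by
    rw [smul_add, su_smul_smul, ← mul_smul, hz, one_smul, smul_add, smul_smul, he, one_smul,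
      add_comm]
  have h0 : v + e • z • v ≠ 0 := by
    intro h
    apply hv'
    have := congrArg (fun w => e • w) h
    simp only [smul_add, smul_smul, he, one_smul, smul_zero] at this
    rw [neg_smul, eq_neg_iff_add_eq_zero, add_comm, this]
  have hr := hv.add ((hs v hv).smul e)
  have hzr := key v
  generalize v + e • z • v = r at h0 hr hzr
  by_cases hrr : hf q r r = 0
  · obtain ⟨u, hu, hu'⟩ := hr.exists_hf h0
    have h1 : hf q r (u + e • z • u) ≠ 0 := by
      rw [hf_add_right, hf_smul_right, hf_smul_right', inv_eq_of_mul_eq_one_right hz, hzr,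
        hf_smul_left, he', ← mul_assoc, he, one_mul, ← two_mul]
      exact mul_ne_zero h2 hu'
    obtain ⟨a, l, v1, -⟩ := exists_unit_iso hrr h1 (s := 1) (map_one _) one_ne_zero
    refine ⟨_, ⟨((hu.add ((hs u hu).smul e)).smul a).add (hr.smul l), v1⟩, ?_⟩
    rw [smul_add z, su_smul_smul, su_smul_smul, key, hzr]
    generalize z • u = y
    module
  · obtain ⟨b, -, hb⟩ := exists_normalize hrr
    exact ⟨_, ⟨hr.smul _, hb⟩, by rw [su_smul_smul, hzr, smul_comm]⟩

theorem perp_of_eigen (h2 : (2 : F) ≠ 0) {z : SU N F q} {x y : Fin N → F} (hx : z • x = -x)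
    (hy : z • y = y) : hf q y x = 0 := by
  have := hf_smul_smul z y x
  rw [hx, hy, hf_neg_right] at this
  exact mul_left_cancel₀ h2 (by linear_combination -this)

theorem invol_frame (h2 : (2 : F) ≠ 0) {z : SU 4 F q} (hz : z * z = 1)
    (h1 : ∃ v : Fin 4 → F, z • v ≠ v) (h1' : ∃ v : Fin 4 → F, z • v ≠ -v) :
    ∃ h : SU 4 F q, DiagInv (h⁻¹ * z * h) (Ico 0 2) := by
  obtain ⟨v, hv⟩ := h1
  obtain ⟨v', hv'⟩ := h1'
  obtain ⟨x, hx, ex⟩ := exists_unit_eigen h2 hz (fun v _ => usupp_univ _) (e := -1) (by simp)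
    (by simp) (usupp_univ v) (by simpa using hv)
  obtain ⟨y, hy, ey⟩ := exists_unit_eigen h2 hz (fun v _ => usupp_univ _) (e := 1) (by simp)
    (by simp) (usupp_univ v') (by simpa using hv')
  rw [neg_one_smul] at ex
  rw [one_smul] at ey
  obtain ⟨g, rfl, rfl⟩ := exists_frame2 (by norm_num) hx.2 hy.2 (perp_of_eigen h2 ex ey)
  have z0 : (g⁻¹ * z * g) • (ue 0 : Fin 4 → F) = (-1 : F) • ue 0 := by
    rw [mul_smul, mul_smul, ex]; simp
  have z1 : (g⁻¹ * z * g) • (ue 1 : Fin 4 → F) = (1 : F) • ue 1 := by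
    rw [mul_smul, mul_smul, ey]; simp
  have zz : (g⁻¹ * z * g) * (g⁻¹ * z * g) = 1 := by
    calc _ = g⁻¹ * (z * z) * g := by group
      _ = 1 := by rw [hz]; simp
  obtain ⟨w, hw, hw'⟩ : ∃ w : Fin 4 → F, USupp q (Ico 2 4) w ∧ (g⁻¹ * z * g) • w ≠ w := by
    by_contra! h
    obtain ⟨d, h3, hd⟩ := last_eigen z0 z1 (c := 1) (by rw [h _ (usupp_ue (by simp)), one_smul])
    rw [h _ (usupp_ue (by simp))] at h3
    have := congrArg (fun v => hf q v (ue 3)) h3
    simp only [hf_smul_left, hf_ue_self (show 3 < 4 by norm_num)] at this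
    apply h2
    linear_combination -hd + this
  obtain ⟨x', hx', ex'⟩ := exists_unit_eigen h2 zz (s := Ico 2 4) (fun v hv l hl => by
    rw [hf_smul_left', inv_eq_of_mul_eq_one_right zz]
    simp only [mem_Ico, not_and, not_lt] at hl
    rcases (show l = 0 ∨ l = 1 ∨ 4 ≤ l by omega) with rfl | rfl | h
    · rw [z0]; simp [hv 0 (by simp)]
    · rw [z1]; simp [hv 1 (by simp)]
    · simp [ue_of_le h]) (e := -1) (by simp) (by simp) hw (by simpa using hw')
  obtain ⟨p, p0, p1, p2⟩ := exists_frame3 (N := 4) le_rfl (hf_ue_self (k := 0) (by norm_num)) hx'.2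
    (hf_ue_self (k := 1) (by norm_num)) (hx'.1 0 (by simp)) (hf_ue_ne (by norm_num))
    (hf_eq_zero_comm (hx'.1 1 (by simp)))
  have y0 : (p⁻¹ * (g⁻¹ * z * g) * p) • (ue 0 : Fin 4 → F) = (-1 : F) • ue 0 := by
    rw [mul_smul, mul_smul, p0, z0, su_smul_smul, inv_smul_eq_iff.2 p0.symm]
  have y1 : (p⁻¹ * (g⁻¹ * z * g) * p) • (ue 1 : Fin 4 → F) = (-1 : F) • ue 1 := by
    rw [mul_smul, mul_smul, p1, ex', su_smul_smul, inv_smul_eq_iff.2 p1.symm]
  have y2 : (p⁻¹ * (g⁻¹ * z * g) * p) • (ue 2 : Fin 4 → F) = (1 : F) • ue 2 := by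
    rw [mul_smul, mul_smul, p2, z1, su_smul_smul, inv_smul_eq_iff.2 p2.symm]
  obtain ⟨d, y3, hd⟩ := last_eigen y0 y1 y2
  refine ⟨g * p, ?_⟩
  rw [show (g * p)⁻¹ * z * (g * p) = p⁻¹ * (g⁻¹ * z * g) * p by group]
  refine ⟨fun l hl => ?_, fun l hl => ?_⟩
  · simp only [mem_Ico] at hl
    rcases (show l = 0 ∨ l = 1 by omega) with rfl | rfl
    · rw [y0, neg_one_smul]
    · rw [y1, neg_one_smul]
  · simp only [mem_Ico, not_and, not_lt] at hl
    rcases (show l = 2 ∨ l = 3 ∨ 4 ≤ l by omega) with rfl | rfl | h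
    · rw [y2, one_smul]
    · rw [y3, show d = 1 by linear_combination hd, one_smul]
    · simp [ue_of_le h]

theorem fix_plane (h3 : (3 : F) = 0) {a b t : SU N F q} (h : Gen3 a b) {k : ℕ} (hk : k + 2 ≤ N)
    (hz : DiagInv ((a * b * a) ^ 2) (Ico k (k + 2))) (ht : t ^ 3 = 1) (hta : t * a = a * t)
    (htb : t * b = b * t) {v : Fin N → F} (hv : USupp q (Ico k (k + 2)) v) : t • v = v := by
  have h2 : (2 : F) ≠ 0 := fun h2 => one_ne_zero (by linear_combination h3 - h2 : (1 : F) = 0)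
  have pres : ∀ x : SU N F q, x * (a * b * a) ^ 2 = (a * b * a) ^ 2 * x → ∀ u : Fin N → F,
      USupp q (Ico k (k + 2)) u → USupp q (Ico k (k + 2)) (x • u) := fun x hx u hu =>
    hz.usupp_of_neg h2 (by rw [← mul_smul, ← hx, mul_smul, hz.smul_neg hu, smul_neg])
  have htz : t * (a * b * a) ^ 2 = (a * b * a) ^ 2 * t :=
    ((Commute.mul_right (Commute.mul_right hta htb) hta).pow_right 2)
  by_contra hne
  obtain ⟨r, hr, r0, hrt⟩ : ∃ r, USupp q (Ico k (k + 2)) r ∧ r ≠ 0 ∧ t • r = r := by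
    have s1 := (pres t htz v hv).sub hv
    by_cases e : t • (t • v - v) = t • v - v
    · exact ⟨_, s1, sub_ne_zero.2 hne, e⟩
    · refine ⟨_, (pres t htz _ s1).sub s1, sub_ne_zero.2 e, ?_⟩
      have e3 : t • t • t • v = v := by rw [← mul_smul, ← mul_smul, ← pow_three', ht, one_smul]
      simp only [smul_sub, e3]
      generalize t • t • v = y
      generalize t • v = x
      have h3' : (3 : F) • (y - x) = 0 := by rw [h3, zero_smul]
      linear_combination (norm := module) -h3'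
  have key : ∀ x : SU N F q, x ^ 3 = 1 → t * x = x * t →
      x * (a * b * a) ^ 2 = (a * b * a) ^ 2 * x → x • r = r := by
    intro x hx h1 h4
    rcases plane_dichotomy hk hr (pres x h4 r hr) r0 with ⟨l, hl⟩ | hall
    · have e3 : x • x • x • r = r := by rw [← mul_smul, ← mul_smul, ← pow_three', hx, one_smul]
      simp only [hl, su_smul_smul, smul_smul] at e3
      have : (l * l * l - 1) • r = 0 := by rw [sub_smul, e3, one_smul, sub_self]
      have e4 : (l - 1) ^ 3 = 0 := by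
        linear_combination (smul_eq_zero.1 this).resolve_right r0 - (l ^ 2 - l) * h3
      rw [hl, sub_eq_zero.1 (pow_eq_zero_iff (by norm_num) |>.1 e4), one_smul]
    · exfalso
      obtain ⟨c, d, rfl⟩ := hall v hv
      apply hne
      rw [smul_add, su_smul_smul, su_smul_smul, hrt, ← mul_smul, h1, mul_smul, hrt]
  have ea := key a h.ha hta h.comm_a.symm
  have eb := key b h.hb htb h.comm_b.symm
  have := hz.smul_neg hr
  rw [_root_.sq, mul_smul, mul_smul, mul_smul, mul_smul, mul_smul, ea, eb, ea, ea, eb, ea,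
    eq_neg_iff_add_eq_zero, ← two_smul F] at this
  exact r0 ((smul_eq_zero.1 this).resolve_left h2)

end Cfsg.Agent.Amalg
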