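import Mathlib
import Cfsg.Agent.Amalg.UGlue

/-!
Subgroups of `SU₃` isomorphic to `SU₂` are stabilisers of nonisotropic vectors; recognition of
standard pairs.
-/

set_option autoImplicit false

namespace Cfsg.Agent.Amalg

open Matrix Set MatrixGroups Cfsg.Agent.Pres

variable {F : Type*} [Field F] [Fintype F] {q : ℕ} [hF : Fact (Fintype.card F = q ^ 2)]

theorem usupp_all {N : ℕ} (v : Fin N → F) : USupp q (Ico 0 N) v := by
  intro l hl
  rw [ue_of_le (by simpa using hl), hf_zero_right]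

theorem stabilizer_ue0 : MulAction.stabilizer (SU 3 F q) (ue 0 : Fin 3 → F) =
    (i12 : SU 2 F q →* SU 3 F q).range := by
  ext g
  rw [MulAction.mem_stabilizer_iff]
  refine Iff.trans ?_ (mem_uFix_Ico 2 1 _ g)
  refine ⟨fun h => mem_uFix_succ (k := 0) (M := 3) (fun l hl => ?_) h, fun h => h 0 (by simp)⟩
  rw [ue_of_le (by simpa using hl), smul_zero]

theorem stabilizer_ue2 : MulAction.stabilizer (SU 3 F q) (ue 2 : Fin 3 → F) =
    (i01 : SU 2 F q →* SU 3 F q).range := by
  ext g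
  rw [MulAction.mem_stabilizer_iff]
  refine Iff.trans ?_ (mem_uFix_Ico 2 0 _ g)
  refine ⟨fun h l hl => ?_, fun h => h 2 (by simp)⟩
  by_cases h2 : l = 2
  · rwa [h2]
  · rw [ue_of_le (by simp only [mem_Ico] at hl; omega), smul_zero]

theorem card_stabilizer_unit (hq : 3 ≤ q) {w : Fin 3 → F} (hw : hf q w w = 1) :
    Nat.card (MulAction.stabilizer (SU 3 F q) w) = Nat.card (SU 2 F q) := by
  obtain ⟨g, -, rfl⟩ := u_trans hq (M := 3) (k := 0) le_rfl (by norm_num) ⟨usupp_all w, hw⟩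
  rw [MulAction.stabilizer_smul_eq_stabilizer_map_conj, Subgroup.card_map_of_injective
    (MulAut.conj g).injective, stabilizer_ue0]
  exact (Nat.card_congr (MonoidHom.ofInjective (suEmb_injective _)).toEquiv).symm

theorem coprime_char (p : ℕ) [Fact p.Prime] [CharP F p] : Nat.Coprime p (q + 1) := by
  obtain ⟨k, hk⟩ := uq_eq_pow (F := F) q p
  have h2 := two_le_uq (F := F) q
  have : p ∣ q := by
    rw [hk]
    refine dvd_pow_self p ?_
    rintro rfl
    simp at hk
    omega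
  exact (Nat.coprime_add_iff_right this).2 (Nat.coprime_one_right p)

theorem fix_space (hq : 3 ≤ q) {w v : Fin 3 → F} (hw : hf q w w = 1) {d : SU 3 F q}
    (hdw : d • w = w) (hd : d ^ (q + 1) = 1) (hd1 : d ≠ 1) (hv : d • v = v) :
    v = hf q v w • w := by
  obtain ⟨g, -, rfl⟩ := u_trans hq (M := 3) (k := 0) le_rfl (by norm_num) ⟨usupp_all w, hw⟩
  have h1 : g⁻¹ * d * g ∈ MulAction.stabilizer (SU 3 F q) (ue 0 : Fin 3 → F) := by
    rw [MulAction.mem_stabilizer_iff, mul_smul, mul_smul, hdw, inv_smul_smul]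
  rw [stabilizer_ue0] at h1
  obtain ⟨x, hx⟩ := h1
  have h2 : i12 x • (g⁻¹ • v) = g⁻¹ • v := by
    rw [hx, mul_smul, mul_smul, smul_inv_smul, hv]
  rw [hf_smul_right', ← su_smul_smul, ← inv_smul_eq_iff]
  generalize g⁻¹ • v = u at h2
  have e1 := congrFun h2 1
  have e2 := congrFun h2 2
  simp [su_smul_def, suM_i12, mulVec, dotProduct, Fin.sum_univ_three] at e1 e2
  have hdet := suM_det x
  rw [det_fin_two] at hdet
  have htr : suM x 0 0 + suM x 1 1 - 2 ≠ 0 := by
    intro h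
    obtain ⟨p, hp⟩ := CharP.exists F
    haveI : Fact p.Prime := ⟨CharP.char_is_prime F p⟩
    obtain ⟨c, a, hc⟩ := exists_conj_sl2u (x : SL(2, F)) (sub_eq_zero.1 h)
    have a1 : (x : SL(2, F)) ^ p = 1 := by
      have := congrArg (· ^ p) hc
      simp only [conj_pow, sl2u_pow, CharP.cast_eq_zero, zero_mul, sl2u_zero] at this
      simpa using this
    have a2 : x ^ p = 1 := Subtype.ext a1
    have a3 : x ^ (q + 1) = 1 := by
      apply suEmb_injective (ivE 2 1 (by norm_num : 1 + 2 ≤ 3))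
      change i12 _ = i12 _
      rw [map_pow, hx, map_one, show g⁻¹ * d * g = g⁻¹ * d * g⁻¹⁻¹ by simp, conj_pow, hd]
      simp
    have a4 : x = 1 := (pow_eq_one_iff_of_coprime (coprime_char (F := F) (q := q) p)).1 ⟨a2, a3⟩
    rw [a4, map_one] at hx
    apply hd1
    calc d = g * (g⁻¹ * d * g) * g⁻¹ := by group
      _ = 1 := by rw [← hx]; simp
  have u1 : u 1 = 0 := (mul_eq_zero.1 (show (suM x 0 0 + suM x 1 1 - 2) * u 1 = 0 by
    linear_combination (1 - suM x 1 1) * e1 + suM x 0 1 * e2 + u 1 * hdet)).resolve_left htr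
  have u2 : u 2 = 0 := (mul_eq_zero.1 (show (suM x 0 0 + suM x 1 1 - 2) * u 2 = 0 by
    linear_combination (1 - suM x 0 0) * e2 + suM x 1 0 * e1 + u 2 * hdet)).resolve_left htr
  have := hf_ue_fin (q := q) u 0
  ext i
  fin_cases i <;> simp [ue, u1, u2]
  exact this.symm

theorem iso_dep (hq : 3 ≤ q) {p p' : Fin 3 → F} (h0 : p ≠ 0) (hp : hf q p p = 0)
    (hp' : hf q p' p' = 0) (h : hf q p' p = 0) : ∃ a : F, p' = a • p := by
  obtain ⟨u, -, hu⟩ := (usupp_all (q := q) p).exists_hf h0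
  obtain ⟨a, l, v1, v2⟩ := exists_unit_iso hp hu (s := 1) (map_one _) one_ne_zero
  generalize a • u + l • p = v at v1 v2
  have hpv := left_ne_zero_of_mul_eq_one v2
  have h' := hf_eq_zero_comm h
  obtain ⟨b, hb, hr⟩ := exists_normalize (q := q) (w := p - hf q p v • v) (by
    simp [hp, v1, v2])
  obtain ⟨g, -, α, β, hβ, e1, e2⟩ := u_frame2 hq (M := 3) (k := 0) le_rfl (by norm_num)
    ⟨usupp_all v, v1⟩ ⟨usupp_all _, hr⟩ (uAdj_of_perp' (by simp [v1]))
  refine ⟨hf q p' v / hf q p v, ?_⟩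
  have w1 : hf q (p' - (hf q p' v / hf q p v) • p) v = 0 := by simp [hpv]
  have w2 : hf q (p' - (hf q p' v / hf q p v) • p) p = 0 := by simp [h, hp]
  have w3 : hf q (p' - (hf q p' v / hf q p v) • p) (p' - (hf q p' v / hf q p v) • p) = 0 := by
    simp [h, hp, hp', h']
  rw [← sub_eq_zero]
  generalize p' - (hf q p' v / hf q p v) • p = w at w1 w2 w3
  have s1 := usupp_of_perp (usupp_all (q := q) (g⁻¹ • w)) hβ
    (by rw [← hf_smul_right', e1, w1]) (by rw [← hf_smul_right', e2]; simp [w1, w2])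
  have s2 : g⁻¹ • w = hf q (g⁻¹ • w) (ue 2) • ue 2 := by
    rw [← sub_eq_zero]
    apply vec_ext (q := q)
    intro l
    rw [usupp_sub_ue (by norm_num) s1 l (by simp), hf_zero_left]
  rw [← hf_smul_smul g⁻¹, s2, hf_smul_left, hf_smul_right, hf_ue_self (by norm_num)] at w3
  have s3 : hf q (g⁻¹ • w) (ue 2) = 0 := by
    rcases mul_eq_zero.1 w3 with h | h
    · exact h
    · exact hf_eq_zero_comm (by simpa using h)
  rw [s3, zero_smul, inv_smul_eq_iff, smul_zero] at s2
  exact s2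

/-- `g` is a transvection with centre `p`. -/
structure IsTv (g : SU 3 F q) (p : Fin 3 → F) : Prop where
  ne : p ≠ 0
  iso : hf q p p = 0
  mem : ∃ v, p = g • v - v
  dep : ∀ v, ∃ a : F, g • v - v = a • p
  fix : ∀ v, hf q v p = 0 → g • v = v

theorem exists_isTv (hq : 3 ≤ q) (h2 : (2 : F) = 0) {g : SU 3 F q} (hg : g * g = 1) (hg1 : g ≠ 1) :
    ∃ p, IsTv g p := by
  obtain ⟨v0, hv0⟩ : ∃ v0 : Fin 3 → F, g • v0 ≠ v0 := by
    by_contra! h
    exact hg1 (su_ext_ue fun l => by rw [h, one_smul])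
  have hinv : g⁻¹ = g := inv_eq_of_mul_eq_one_right hg
  have hadj : ∀ u v : Fin 3 → F, hf q (g • u - u) v = hf q u (g • v - v) := fun u v => by
    rw [hf_sub_left, hf_sub_right, hf_smul_left', hinv]
  have hN : ∀ u v : Fin 3 → F, hf q (g • u - u) (g • v - v) = 0 := fun u v => by
    rw [hadj, smul_sub, ← mul_smul, hg, one_smul]
    simp only [hf_sub_right]
    linear_combination (hf q u v - hf q u (g • v)) * h2
  have h0 : g • v0 - v0 ≠ 0 := sub_ne_zero.2 hv0
  have hdep : ∀ v, ∃ a : F, g • v - v = a • (g • v0 - v0) := fun v =>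
    iso_dep hq h0 (hN _ _) (hN _ _) (hN _ _)
  refine ⟨g • v0 - v0, h0, hN _ _, ⟨v0, rfl⟩, hdep, fun v hv => ?_⟩
  obtain ⟨u, -, hu⟩ := (usupp_all (q := q) _).exists_hf h0
  obtain ⟨a, ha⟩ := hdep v
  obtain ⟨b, hb⟩ := hdep u
  rw [hadj, hb, hf_smul_right] at hu
  rw [← hadj, ha, hf_smul_left, mul_eq_zero] at hv
  rcases hv with hv | hv
  · rwa [hv, zero_smul, sub_eq_zero] at ha
  · exact absurd (hf_eq_zero_comm hv) (right_ne_zero_of_mul hu)

theorem IsTv.dep_of_comm (hq : 3 ≤ q) {g g' : SU 3 F q} {p p' : Fin 3 → F} (h : IsTv g p)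
    (h' : IsTv g' p') (hc : g * g' = g' * g) : ∃ a : F, p' = a • p := by
  obtain ⟨v, hv⟩ := h.mem
  obtain ⟨v', hv'⟩ := h'.mem
  obtain ⟨a, ha⟩ := h.dep (g' • v)
  obtain ⟨b, hb⟩ := h'.dep p
  rw [← mul_smul, hc, mul_smul, ← smul_sub, ← hv] at ha
  by_cases hb0 : b = 0
  · rw [hb0, zero_smul, sub_eq_zero] at hb
    refine iso_dep hq h.ne h.iso h'.iso ?_
    rw [hv', hf_sub_left, hf_smul_ue_of_fix hb, sub_self]
  · refine ⟨b⁻¹ * (a - 1), ?_⟩
    rw [mul_smul, sub_smul, one_smul, ← ha, hb, smul_smul, inv_mul_cancel₀ hb0, one_smul]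

theorem exists_fixed_unit (hq : 3 ≤ q) (θ : SU 2 F q →* SU 3 F q) (hθ : Function.Injective θ) :
    ∃ w : Fin 3 → F, hf q w w = 1 ∧ ∀ x, θ x • w = w := by
  obtain ⟨-, c, hc, -⟩ := exists_sl2_su2 (F := F) (q := q)
  have hi : Function.Injective (θ.comp c) := hθ.comp hc.1
  suffices H : ∃ w : Fin 3 → F, hf q w w = 1 ∧ (∀ t, θ.comp c (sl2u t) • w = w) ∧
      ∀ t, θ.comp c (sl2l t) • w = w by
    obtain ⟨w, h1, h2, h3⟩ := H
    refine ⟨w, h1, fun x => ?_⟩
    obtain ⟨y, rfl⟩ := hc.2 x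
    have := sl2_eq_top ((MulAction.stabilizer _ w).comap (θ.comp c)) h2 h3
    have hy : y ∈ (MulAction.stabilizer _ w).comap (θ.comp c) := this ▸ Subgroup.mem_top y
    exact hy
  by_cases h2 : (2 : F) = 0
  · generalize θ.comp c = ρ at hi
    have h2' : (2 : cjFix F q) = 0 := Subtype.ext h2
    have tu : ∀ t, t ≠ 0 → ∃ p, IsTv (ρ (sl2u t)) p := fun t ht => exists_isTv hq h2
      (by rw [← map_mul, ← sl2u_add, ← two_mul, h2', zero_mul, sl2u_zero, map_one])
      (fun h => ht (sl2u_injective (hi (by rw [h, sl2u_zero, map_one]))))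
    have tl : ∀ t, t ≠ 0 → ∃ p, IsTv (ρ (sl2l t)) p := fun t ht => exists_isTv hq h2
      (by rw [← map_mul, ← sl2l_add, ← two_mul, h2', zero_mul, sl2l_zero, map_one])
      (fun h => ht (sl2l_injective (hi (by rw [h, sl2l_zero, map_one]))))
    obtain ⟨p1, h1⟩ := tu 1 one_ne_zero
    obtain ⟨p2, h3⟩ := tl 1 one_ne_zero
    have h12 : hf q p1 p2 ≠ 0 := by
      intro h
      have hc : ρ (sl2l 1) * ρ (sl2u 1) = ρ (sl2u 1) * ρ (sl2l 1) := by
        apply su_ext_ue
        intro l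
        obtain ⟨a, ha⟩ := h1.dep (ue l)
        obtain ⟨b, hb⟩ := h3.dep (ue l)
        rw [sub_eq_iff_eq_add] at ha hb
        rw [mul_smul, mul_smul, ha, hb, smul_add, smul_add, su_smul_smul, su_smul_smul, ha, hb,
          h3.fix p1 h, h1.fix p2 (hf_eq_zero_comm h)]
        abel
      rw [← map_mul, ← map_mul] at hc
      simpa using entry10_of_comm_sl2u one_ne_zero _ (hi hc)
    obtain ⟨a, l, v1, v2⟩ := exists_unit_iso h1.iso h12 (s := 1) (map_one _) one_ne_zero
    have ha : cj q a ≠ 0 := by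
      intro h
      simp [h, h1.iso] at v2
    have hv : ∀ w, hf q w (a • p2 + l • p1) = 0 → hf q w p1 = 0 → hf q w p2 = 0 := by
      intro w e1 e2
      simpa [e2, ha] using e1
    generalize a • p2 + l • p1 = v at v1 v2 hv
    obtain ⟨b, hb, hr⟩ := exists_normalize (q := q) (w := p1 - hf q p1 v • v) (by
      simp [h1.iso, v1, v2])
    obtain ⟨w, hw, w1, w2⟩ := exists_unit_perp2 hq (M := 3) (k := 0) le_rfl (by norm_num)
      ⟨usupp_all v, v1⟩ ⟨usupp_all _, hr⟩ (uAdj_of_perp' (by simp [v1]))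
    have w3 : hf q w p1 = 0 := by simpa [w1, hb] using w2
    have w4 := hv w w1 w3
    refine ⟨w, hw.2, fun t => ?_, fun t => ?_⟩
    · by_cases ht : t = 0
      · rw [ht, sl2u_zero, map_one, one_smul]
      obtain ⟨p, hp⟩ := tu t ht
      obtain ⟨a, rfl⟩ := h1.dep_of_comm hq hp
        (by rw [← map_mul, ← map_mul, ← sl2u_add, ← sl2u_add, add_comm])
      exact hp.fix w (by simp [w3])
    · by_cases ht : t = 0
      · rw [ht, sl2l_zero, map_one, one_smul]
      obtain ⟨p, hp⟩ := tl t ht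
      obtain ⟨a, rfl⟩ := h3.dep_of_comm hq hp
        (by rw [← map_mul, ← map_mul, ← sl2l_add, ← sl2l_add, add_comm])
      exact hp.fix w (by simp [w4])
  · let m : SU 2 F q := su2 (-1) 0 (by simp)
    have hm : suM m = -1 := by
      rw [suM_su2]
      ext i j
      fin_cases i <;> fin_cases j <;> simp
    have hmc : ∀ x, m * x = x * m := fun x => su_ext (by simp [suM_mul, hm])
    have hm2 : m * m = 1 := su_ext (by simp [suM_mul, hm, suM_one])
    have hm1 : m ≠ 1 := by
      intro h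
      have := congrFun (congrFun hm 0) 0
      rw [h, suM_one] at this
      simp only [one_apply_eq, Matrix.neg_apply] at this
      exact h2 (by linear_combination this)
    have hz2 : θ m * θ m = 1 := by rw [← map_mul, hm2, map_one]
    have hz1 : θ m ≠ 1 := fun h => hm1 (hθ (by rw [h, map_one]))
    have hzc : ∀ x, θ m * θ x = θ x * θ m := fun x => by rw [← map_mul, hmc, map_mul]
    generalize θ m = z at hz2 hz1 hzc
    have hdet : (suM z - 1).det = 0 := by
      have e1 : suM z * (suM z - 1) = -(suM z - 1) := by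
        rw [mul_sub, ← suM_mul, hz2, suM_one]; simp
      have e2 := congrArg det e1
      rw [det_mul, suM_det, det_neg] at e2
      apply mul_left_cancel₀ h2
      simp only [Fintype.card_fin] at e2
      linear_combination e2
    obtain ⟨r, hr0, hr⟩ := Matrix.exists_mulVec_eq_zero_iff.2 hdet
    rw [sub_mulVec, one_mulVec, sub_eq_zero, ← su_smul_def] at hr
    obtain ⟨w, hw, hzw⟩ : ∃ w : Fin 3 → F, hf q w w = 1 ∧ z • w = w := by
      by_cases hrr : hf q r r = 0
      · obtain ⟨u, -, hu⟩ := (usupp_all (q := q) _).exists_hf hr0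
        have hu' : hf q r (u + z • u) ≠ 0 := by
          rw [hf_add_right, hf_smul_right', inv_eq_of_mul_eq_one_right hz2, hr, ← two_mul]
          exact mul_ne_zero h2 hu
        obtain ⟨a, l, v1, -⟩ := exists_unit_iso hrr hu' (s := 1) (map_one _) one_ne_zero
        refine ⟨_, v1, ?_⟩
        rw [smul_add, su_smul_smul, su_smul_smul, hr, smul_add z, ← mul_smul z z, hz2, one_smul,
          add_comm u]
      · obtain ⟨b, -, hb⟩ := exists_normalize hrr
        exact ⟨_, hb, by rw [su_smul_smul, hr]⟩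
    obtain ⟨p, hp⟩ := CharP.exists F
    haveI : Fact p.Prime := ⟨CharP.char_is_prime F p⟩
    have hev : z ^ (q + 1) = 1 := by
      have hodd : Odd q := by
        obtain ⟨k, hk⟩ := uq_eq_pow (F := F) q p
        rw [hk]
        refine Odd.pow ((Fact.out : p.Prime).odd_of_ne_two ?_)
        rintro rfl
        exact h2 (CharP.cast_eq_zero F 2)
      obtain ⟨k, hk⟩ := hodd.add_one
      rw [hk, ← two_mul, pow_mul, sq, hz2, one_pow]
    have key : ∀ x, x ^ p = 1 → θ x • w = w := by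
      intro x hx
      have e := fix_space hq hw hzw hev hz1 (v := θ x • w)
        (by rw [← mul_smul, hzc, mul_smul, hzw])
      generalize hf q (θ x • w) w = a at e
      have e2 : ∀ k : ℕ, θ x ^ k • w = a ^ k • w := by
        intro k
        induction k with
        | zero => simp
        | succ k ih => rw [pow_succ, mul_smul, e, su_smul_smul, ih, smul_smul, pow_succ']
      have e3 := congrArg (fun v => hf q v w) (e2 p)
      simp only [← map_pow, hx, map_one, one_smul, hf_smul_left, hw, mul_one] at e3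
      have e4 : (a - 1) ^ p = 0 := by rw [sub_pow_char, ← e3]; simp
      rw [e, sub_eq_zero.1 (pow_eq_zero_iff (Fact.out : p.Prime).ne_zero |>.1 e4), one_smul]
    refine ⟨w, hw, fun t => key _ ?_, fun t => key _ ?_⟩
    · rw [← map_pow, sl2u_pow]; simp [sl2u_zero]
    · rw [← map_pow, sl2l_pow]; simp [sl2l_zero]

theorem range_eq_stabilizer (hq : 3 ≤ q) (θ : SU 2 F q →* SU 3 F q) (hθ : Function.Injective θ) :
    ∃ w : Fin 3 → F, hf q w w = 1 ∧ θ.range = MulAction.stabilizer (SU 3 F q) w := by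
  obtain ⟨w, h1, h2⟩ := exists_fixed_unit hq θ hθ
  haveI := finite_SU (N := 3) (F := F) (q := q)
  refine ⟨w, h1, Subgroup.eq_of_le_of_card_ge (by rintro _ ⟨x, rfl⟩; exact h2 x) ?_⟩
  rw [card_stabilizer_unit hq h1]
  exact (Nat.card_congr (MonoidHom.ofInjective hθ).toEquiv).le

theorem std_pair (hq : 3 ≤ q) (θ θ' : SU 2 F q →* SU 3 F q) (hθ : Function.Injective θ)
    (hθ' : Function.Injective θ') (htop : θ.range ⊔ θ'.range = ⊤) {d d' : SU 3 F q}
    (hd : d ∈ θ.range) (hd' : d' ∈ θ'.range) (h1 : d ≠ 1) (h1' : d' ≠ 1) (h2 : d ^ (q + 1) = 1)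
    (h2' : d' ^ (q + 1) = 1) (hc : d * d' = d' * d) :
    ∃ g : SU 3 F q, (i01 : SU 2 F q →* SU 3 F q).range.map (MulAut.conj g).toMonoidHom = θ.range ∧
      (i12 : SU 2 F q →* SU 3 F q).range.map (MulAut.conj g).toMonoidHom = θ'.range := by
  obtain ⟨w, hw, e⟩ := range_eq_stabilizer hq θ hθ
  obtain ⟨w', hw', e'⟩ := range_eq_stabilizer hq θ' hθ'
  rw [e] at hd htop ⊢
  rw [e'] at hd' htop ⊢
  rw [MulAction.mem_stabilizer_iff] at hd hd'
  have hperp : hf q w w' = 0 := by
    by_contra h0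
    have a1 := fix_space hq hw hd h2 h1 (v := d' • w) (by rw [← mul_smul, hc, mul_smul, hd])
    have a2 := hf_smul_ue_of_fix hd' w
    rw [a1, hf_smul_left] at a2
    rw [mul_right_cancel₀ h0 (a2.trans (one_mul _).symm), one_smul] at a1
    have a3 := fix_space hq hw' hd' h2' h1' a1
    have a4 : (⊤ : Subgroup (SU 3 F q)) ≤ MulAction.stabilizer (SU 3 F q) w := by
      rw [← htop]
      refine sup_le le_rfl fun g hg => ?_
      rw [MulAction.mem_stabilizer_iff] at hg ⊢
      rw [a3, su_smul_smul, hg]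
    obtain ⟨g, -, hg⟩ := u_trans hq (M := 3) (k := 0) le_rfl (by norm_num) ⟨usupp_all w, hw⟩
    obtain ⟨g', -, hg'⟩ := u_trans hq (M := 3) (k := 0) le_rfl (by norm_num)
      (ue_mem_UX (F := F) (N := 3) (k := 1) (by simp) (by norm_num))
    have a5 : (g * g' * g⁻¹) • w = w := a4 trivial
    rw [← hg, mul_smul, mul_smul, inv_smul_smul, hg', smul_left_cancel_iff] at a5
    simpa [ue] using congrFun a5 0
  obtain ⟨g, -, rfl⟩ := u_trans hq (M := 3) (k := 0) le_rfl (by norm_num) ⟨usupp_all w', hw'⟩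
  rw [hf_smul_right'] at hperp
  obtain ⟨p, hp, ep⟩ := u_trans hq (M := 3) (k := 1) le_rfl (by norm_num) (y := g⁻¹ • w)
    ⟨by simpa [hperp] using usupp_sub_ue (k := 0) (by norm_num) (usupp_all (q := q) (g⁻¹ • w)),
      by simpa using hw⟩
  obtain ⟨s, hs, es⟩ := u_trans hq (M := 3) (k := 1) le_rfl (by norm_num)
    (ue_mem_UX (F := F) (N := 3) (k := 2) (by simp) (by norm_num))
  refine ⟨g * p * s⁻¹, ?_, ?_⟩
  · rw [← stabilizer_ue2, ← MulAction.stabilizer_smul_eq_stabilizer_map_conj, mul_smul, mul_smul,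
      ← es, inv_smul_smul, ep, smul_inv_smul]
  · rw [← stabilizer_ue0, ← MulAction.stabilizer_smul_eq_stabilizer_map_conj, mul_smul, mul_smul,
      (uFix 3 F q _).inv_mem hs 0 (by simp), hp 0 (by simp)]

theorem phanHom_of_tori (hq : 3 ≤ q) {G : Type*} [Group G] {A B : Subgroup G}
    (eA : SU 2 F q ≃* A) (eB : SU 2 F q ≃* B) (e : ↥(A ⊔ B) ≃* SU 3 F q) {d d' : G}
    (hd : d ∈ A) (hd' : d' ∈ B) (h1 : d ≠ 1) (h1' : d' ≠ 1) (h2 : d ^ (q + 1) = 1)
    (h2' : d' ^ (q + 1) = 1) (hc : d * d' = d' * d) :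
    ∃ φ : SU 3 F q →* G, PhanHom (A ⊔ B) A B φ := by
  let θ : SU 2 F q →* SU 3 F q :=
    e.toMonoidHom.comp ((Subgroup.inclusion le_sup_left).comp eA.toMonoidHom)
  let θ' : SU 2 F q →* SU 3 F q :=
    e.toMonoidHom.comp ((Subgroup.inclusion le_sup_right).comp eB.toMonoidHom)
  let ψ : SU 3 F q →* G := (A ⊔ B).subtype.comp e.symm.toMonoidHom
  have hψ : Function.Injective ψ := Subtype.val_injective.comp e.symm.injective
  have hψr : ψ.range = A ⊔ B := by
    rw [MonoidHom.range_comp, MonoidHom.range_eq_top.2 e.symm.surjective,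
      ← MonoidHom.range_eq_map, Subgroup.range_subtype]
  have hA : θ.range.map ψ = A := by
    rw [← MonoidHom.range_comp]
    have : ψ.comp θ = A.subtype.comp eA.toMonoidHom := by ext x; simp [ψ, θ]
    rw [this, MonoidHom.range_comp, MonoidHom.range_eq_top.2 eA.surjective,
      ← MonoidHom.range_eq_map, Subgroup.range_subtype]
  have hB : θ'.range.map ψ = B := by
    rw [← MonoidHom.range_comp]
    have : ψ.comp θ' = B.subtype.comp eB.toMonoidHom := by ext x; simp [ψ, θ']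
    rw [this, MonoidHom.range_comp, MonoidHom.range_eq_top.2 eB.surjective,
      ← MonoidHom.range_eq_map, Subgroup.range_subtype]
  rw [← hA] at hd
  rw [← hB] at hd'
  obtain ⟨x, hx, rfl⟩ := hd
  obtain ⟨y, hy, rfl⟩ := hd'
  obtain ⟨g, g1, g2⟩ := std_pair hq θ θ'
    (e.injective.comp ((Subgroup.inclusion_injective le_sup_left).comp eA.injective))
    (e.injective.comp ((Subgroup.inclusion_injective le_sup_right).comp eB.injective))
    (Subgroup.map_injective hψ (by rw [Subgroup.map_sup, hA, hB, ← MonoidHom.range_eq_map, hψr]))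
    hx hy (fun h => h1 (by rw [h, map_one])) (fun h => h1' (by rw [h, map_one]))
    (hψ (by rw [map_pow, h2, map_one])) (hψ (by rw [map_pow, h2', map_one]))
    (hψ (by rw [map_mul, map_mul, hc]))
  refine ⟨ψ.comp (MulAut.conj g).toMonoidHom, fun z hz => ?_, ?_, ?_, ?_⟩
  · have hi : Function.Injective (ψ.comp (MulAut.conj g).toMonoidHom) :=
      hψ.comp (MulAut.conj g).injective
    rw [(injective_iff_map_eq_one _).1 hi z hz]
    exact Subgroup.one_mem _
  · rw [MonoidHom.range_comp, MonoidHom.range_eq_top.2 (MulAut.conj g).surjective,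
      ← MonoidHom.range_eq_map, hψr]
  · rw [MonoidHom.range_comp, ← Subgroup.map_map, g1, hA]
  · rw [MonoidHom.range_comp, ← Subgroup.map_map, g2, hB]

end Cfsg.Agent.Amalg
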