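import Mathlib
import Cfsg.Agent.Amalg.UAmalg4
import Cfsg.Agent.Amalg.URec3
import Cfsg.Agent.Amalg.UStd

/-!
Subgroups `SU₃(2)` of `SU₄(2)` and automorphisms of `SU₃(2)`.
-/

set_option autoImplicit false

namespace Cfsg.Agent.Amalg

open Matrix Set MatrixGroups Cfsg.Agent.Pres

section General

variable {F : Type*} [Field F] [Fintype F] {q : ℕ} [hF : Fact (Fintype.card F = q ^ 2)]
  {N : ℕ}

/-- Eigenspaces. -/
def Eig (y : SU N F q) (l : F) : Submodule F (Fin N → F) where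
  carrier := {v | y • v = l • v}
  add_mem' {a b} ha hb := by
    simp only [mem_setOf_eq] at *
    rw [smul_add, ha, hb, smul_add]
  zero_mem' := by simp
  smul_mem' c v hv := by
    simp only [mem_setOf_eq] at *
    rw [su_smul_smul, hv, smul_comm]

/-- Nondegenerate subspaces. -/
def ND (q : ℕ) [Fact (Fintype.card F = q ^ 2)] (S : Submodule F (Fin N → F)) : Prop :=
  ∀ r ∈ S, r ≠ 0 → ∃ u ∈ S, hf q r u ≠ 0

theorem nd_top : ND q (⊤ : Submodule F (Fin N → F)) := fun r _ h0 => by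
  obtain ⟨u, -, hu⟩ := (usupp_univ (q := q) r).exists_hf h0
  exact ⟨u, trivial, hu⟩

theorem ND.exists_unit {S : Submodule F (Fin N → F)} (h : ND q S) {r : Fin N → F} (hr : r ∈ S)
    (h0 : r ≠ 0) : ∃ v ∈ S, hf q v v = 1 := by
  by_cases hrr : hf q r r = 0
  · obtain ⟨u, hu, hu'⟩ := h r hr h0
    obtain ⟨a, l, v1, -⟩ := exists_unit_iso hrr hu' (s := 1) (map_one _) one_ne_zero
    exact ⟨_, S.add_mem (S.smul_mem _ hu) (S.smul_mem _ hr), v1⟩
  · obtain ⟨b, -, hb⟩ := exists_normalize hrr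
    exact ⟨_, S.smul_mem _ hr, hb⟩

theorem eig_perp {y : SU N F q} {u v : Fin N → F} {a b : F} (hu : y • u = a • u)
    (hv : y • v = b • v) (hb : b * cj q b = 1) (hab : a ≠ b) : hf q u v = 0 := by
  have := hf_smul_smul y u v
  rw [hu, hv, hf_smul_left, hf_smul_right] at this
  apply mul_left_cancel₀ (sub_ne_zero.2 hab)
  linear_combination b * this - a * hf q u v * hb

theorem range_eq_block {m k : ℕ} (hk : k + m ≤ N) {η : SU m F q →* SU N F q}
    (hη : Function.Injective η) (h : ∀ x, η x ∈ uFix N F q (Ico k (k + m))) :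
    η.range = uFix N F q (Ico k (k + m)) := by
  haveI := finite_SU (N := N) (F := F) (q := q)
  refine Subgroup.eq_of_le_of_card_ge (by rintro _ ⟨x, rfl⟩; exact h x) ?_
  rw [card_uFix_Ico hk]
  exact (Nat.card_congr (MonoidHom.ofInjective hη).toEquiv).le

theorem eq_one_of_comm_suW {y : SU 2 F q} {l : F}
    (h : ∀ v : Fin 3 → F, ((i12 suW * i01 y)⁻¹ * (i01 y * i12 suW)) • v = l • v) : y = 1 := by
  have h0 := h (ue 0)
  have h2 := h (ue 2)
  rw [mul_smul, inv_smul_eq_iff, su_smul_smul] at h0 h2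
  have a0 := congrFun h0 0
  have a1 := congrFun h0 1
  have a2 := congrFun h2 1
  simp [su_smul_def, suM_mul, suM_i01, suM_i12, suW, suM_su2, ue, mulVec, dotProduct,
    Fin.sum_univ_three, Matrix.mul_apply] at a0 a1 a2
  have hd := suM_det y
  rw [det_fin_two, a1, mul_zero, sub_zero] at hd
  have hl : l = 1 := mul_right_cancel₀ (left_ne_zero_of_mul_eq_one hd) (by rw [← a0, one_mul])
  rw [a2, hl, mul_one] at hd
  apply su_ext
  rw [su2_eq y, suM_su2, hd, a1, suM_one]
  ext i j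
  fin_cases i <;> fin_cases j <;> simp

end General

section Two

variable {F : Type*} [Field F] [Fintype F] [hF : Fact (Fintype.card F = 2 ^ 2)]
  {G : Type*} [Group G] {N : ℕ}

include hF in
theorem two_eq_zero2 : (2 : F) = 0 := by
  have := FiniteField.cast_card_eq_zero F
  rw [hF.out] at this
  push_cast at this
  exact (pow_eq_zero_iff (n := 2) (by norm_num)).1 (by linear_combination this)

theorem norm_two {x : F} (hx : x ≠ 0) : x * cj 2 x = 1 := by
  have := FiniteField.pow_card_sub_one_eq_one x hx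
  rw [hF.out] at this
  rw [cj_apply]
  linear_combination this

theorem su2_cases (x : SU 2 F 2) : suM x 0 0 = 0 ∨ suM x 1 0 = 0 := by
  by_contra! h
  have := su2_norm x
  rw [norm_two h.1, norm_two h.2] at this
  simp at this

theorem su2_sq {x : SU 2 F 2} (h : suM x 0 0 = 0) : x * x = 1 := by
  have hn := su2_norm x
  have h2 := two_eq_zero2 (F := F)
  rw [h] at hn
  apply su_ext
  rw [suM_mul, su2_eq x, suM_su2, suM_one, h]
  ext i j
  fin_cases i <;> fin_cases j <;> simp [Matrix.mul_apply, Fin.sum_univ_two]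
  · linear_combination -hn - h2
  · linear_combination -hn - h2

theorem su2_four {x : SU 2 F 2} (h : suM x 0 0 = 0) : x ^ 4 = 1 := by
  rw [show x ^ 4 = x * x * (x * x) by simp only [pow_succ, pow_zero, one_mul, mul_assoc], su2_sq h,
    one_mul]

theorem su2_ind (K : Subgroup (SU 2 F 2)) (h : ∀ x, suM x 0 0 = 0 → x ∈ K) (x : SU 2 F 2) :
    x ∈ K := by
  rcases su2_cases x with h0 | h0
  · exact h x h0
  · have hW : (suW : SU 2 F 2) ∈ K := h _ (by simp [suW, suM_su2])
    have := K.mul_mem (K.inv_mem hW) (h (suW * x) (by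
      simp [suM_mul, suW, suM_su2, Matrix.mul_apply, Fin.sum_univ_two, h0]))
    rwa [inv_mul_cancel_left] at this

theorem gen_two (hN : 2 ≤ N) (K : Subgroup (SU N F 2)) (h : ∀ x, x ^ 4 = 1 → x ∈ K)
    (x : SU N F 2) : x ∈ K := by
  have h2 := two_eq_zero2 (F := F)
  refine All.u_gen le_rfl K (k := 0) hN (fun j _ hj y hy => ?_) (fun p u c _ _ => h _ ?_)
    (mem_uFix_univ x)
  · obtain ⟨y, rfl⟩ := (mem_uFix_Ico 2 j hj y).1 hy
    refine su2_ind (K.comap (suEmb _)) (fun y hy => h _ ?_) y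
    rw [← map_pow, su2_four hy, map_one]
  · by_cases hs : SOK 2 p u c
    · have e : u + u = 0 := by rw [← two_smul F, h2, zero_smul]
      have s2 := hs.add hs
      rw [show 4 = 2 * 2 from rfl, pow_mul, _root_.sq, _root_.sq, uS_mul hs hs, uS_mul s2 s2, e,
        add_zero, hf_zero_left, add_zero, ← two_mul (c + c + _), h2, zero_mul, uS_zero hs.iso]
    · rw [uS, dif_neg hs, one_pow]

theorem proj_mem {y : SU N F 2} (hy : y ^ 3 = 1) {l : F} (hl : l ^ 3 = 1) (v : Fin N → F) :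
    v + l ^ 2 • y • v + l • y • y • v ∈ Eig y l := by
  have e3 : y • y • y • v = v := by rw [← mul_smul, ← mul_smul, ← pow_three', hy, one_smul]
  change y • _ = l • _
  rw [smul_add, smul_add, su_smul_smul, su_smul_smul, e3]
  generalize y • y • v = b
  generalize y • v = a
  match_scalars
  · linear_combination -hl
  · ring
  · ring

theorem ND.inf_eig {S : Submodule F (Fin N → F)} (h : ND 2 S) {y : SU N F 2} (hy : y ^ 3 = 1)
    (hS : ∀ v ∈ S, y • v ∈ S) {l : F} (hl : l ^ 3 = 1) : ND 2 (S ⊓ Eig y l) := by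
  intro r hr h0
  obtain ⟨u, hu, hu'⟩ := h r hr.1 h0
  refine ⟨_, ⟨S.add_mem (S.add_mem hu (S.smul_mem _ (hS _ hu)))
    (S.smul_mem _ (hS _ (hS _ hu))), proj_mem hy hl u⟩, ?_⟩
  have e : y • r = l • r := hr.2
  have e' : y⁻¹ • r = l ^ 2 • r := by
    rw [inv_smul_eq_iff, su_smul_smul, e, smul_smul, ← pow_succ, hl, one_smul]
  rw [hf_add_right, hf_add_right, hf_smul_right, hf_smul_right, hf_smul_right', hf_smul_right',
    hf_smul_right', e', su_smul_smul, e', hf_smul_left, hf_smul_left, hf_smul_left, cj_apply,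
    cj_apply]
  intro e0
  apply hu'
  linear_combination e0 - hf 2 r u * (2 * (l ^ 3 + 1) * hl + two_eq_zero2 (F := F))

theorem exists_eig {S : Submodule F (Fin N → F)} {y : SU N F 2} (hy : y ^ 3 = 1)
    (hS : ∀ v ∈ S, y • v ∈ S) {r : Fin N → F} (hr : r ∈ S) (h1 : y • r ≠ r) :
    ∃ l : F, l ^ 3 = 1 ∧ l ≠ 1 ∧ ∃ v ∈ S ⊓ Eig y l, v ≠ 0 := by
  obtain ⟨w, hw, hw2⟩ := exists_norm_one_sq (F := F) 2
  have h2 := two_eq_zero2 (F := F)
  have hw3 : w ^ 3 = 1 := by rw [cj_apply] at hw; linear_combination hw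
  have hw1 : w ≠ 1 := fun h => hw2 (by rw [h, one_pow])
  have hs : w ^ 2 + w + 1 = 0 := mul_left_cancel₀ (sub_ne_zero.2 hw1) (by linear_combination hw3)
  have hw6 : (w ^ 2) ^ 3 = 1 := by rw [← pow_mul, mul_comm, pow_mul, hw3, one_pow]
  have mem : ∀ l : F, l ^ 3 = 1 → r + l ^ 2 • y • r + l • y • y • r ∈ S ⊓ Eig y l := fun l hl =>
    ⟨S.add_mem (S.add_mem hr (S.smul_mem _ (hS _ hr))) (S.smul_mem _ (hS _ (hS _ hr))),
      proj_mem hy hl r⟩
  by_contra! H
  have a1 := H w hw3 hw1 _ (mem w hw3)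
  have a2 := H _ hw6 hw2 _ (mem _ hw6)
  apply h1
  generalize y • y • r = b at a1 a2
  generalize y • r = a at a1 a2
  have : (1 - w) • (a - r) = 0 := by
    have e : (w ^ 3 - 1) • a = 0 := by rw [hw3, sub_self, zero_smul]
    linear_combination (norm := module) w • a1 - a2 + (w - 1) • e
  exact sub_eq_zero.1 ((smul_eq_zero.1 this).resolve_left (sub_ne_zero.2 hw1.symm))

theorem exists_cube_root : ∃ w : F, w * cj 2 w = 1 ∧ w ^ 3 = 1 ∧ w ≠ 1 := by
  obtain ⟨w, hw, hw2⟩ := exists_norm_one_sq (F := F) 2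
  exact ⟨w, hw, by rw [cj_apply] at hw; linear_combination hw, fun h => hw2 (by rw [h, one_pow])⟩

theorem norm_of_cube {l : F} (hl : l ^ 3 = 1) : l * cj 2 l = 1 := by
  rw [cj_apply]; linear_combination hl

theorem eig_one_of_pow {y : SU N F 2} {v : Fin N → F} (hv : hf 2 v v = 1) {l : F}
    (h : y • v = l • v) (h4 : y ^ 4 = 1) : y • v = v := by
  have e1 := hf_smul_smul y v v
  rw [h, hf_smul_left, hf_smul_right, hv, cj_apply] at e1
  have e2 : y • y • y • y • v = v := by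
    rw [← mul_smul, ← mul_smul, ← mul_smul, show y * y * y * y = y ^ 4 by
      simp only [pow_succ, pow_zero, one_mul], h4, one_smul]
  have e3 := congrArg (fun u => hf 2 u v) e2
  simp only [h, su_smul_smul, hf_smul_left, hv] at e3
  rw [h, show l = 1 by linear_combination e3 - l * e1, one_smul]

/-- The three-cycle. -/
noncomputable def suCyc : SU 3 F 2 := i01 suW * i12 suW

theorem suM_suCyc : suM (suCyc : SU 3 F 2) = !![0, 0, 1; 1, 0, 0; 0, 1, 0] := by
  rw [suCyc, suM_mul, suM_i01, suM_i12, suW, suM_su2]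
  ext i j
  fin_cases i <;> fin_cases j <;> simp [Matrix.mul_apply, Fin.sum_univ_three]

theorem su3_in_su4 (χ : SU 3 F 2 →* SU 4 F 2) (hχ : Function.Injective χ) : ∃ h : SU 4 F 2,
    (∀ x, h⁻¹ * χ x * h ∈ uFix 4 F 2 (Ico 0 3)) ∧
    (∀ x, h⁻¹ * χ (i01 x) * h ∈ uFix 4 F 2 (Ico 0 2)) ∧
    (∀ x, h⁻¹ * χ (i12 x) * h ∈ uFix 4 F 2 (Ico 1 3)) := by
  obtain ⟨w, hw, hw3, hw1⟩ := exists_cube_root (F := F)
  have hw' : w * cj 2 w + 0 * cj 2 0 = 1 := by simpa using hw
  have hw'' : cj 2 w * cj 2 (cj 2 w) + 0 * cj 2 0 = 1 := by simpa [mul_comm] using hw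
  have c1 : cj 2 w * cj 2 w = w := by rw [cj_apply]; linear_combination w * hw3
  have c2 : w * w = cj 2 w := by rw [cj_apply]; ring
  have c3 : cj 2 w * w = 1 := by rw [mul_comm, hw]
  let a : SU 3 F 2 := i01 (su2 w 0 hw')
  let z : SU 3 F 2 := i01 (su2 w 0 hw') * i12 (su2 (cj 2 w) 0 hw'')
  have hzM : suM z = w • 1 := by
    rw [suM_mul, suM_i01, suM_i12, suM_su2, suM_su2]
    ext i j
    fin_cases i <;> fin_cases j <;> simp [Matrix.mul_apply, Fin.sum_univ_three, c1]
  have hz : ∀ v : Fin 3 → F, z • v = w • v := fun v => by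
    rw [su_smul_def, hzM, smul_mulVec, one_mulVec]
  have haM : suM a = !![w, 0, 0; 0, cj 2 w, 0; 0, 0, 1] := by
    rw [suM_i01, suM_su2]; simp
  have ha3 : a ^ 3 = 1 := by
    apply su_ext
    rw [pow_three, suM_mul, suM_mul, haM, suM_one]
    ext i j
    fin_cases i <;> fin_cases j <;> simp [Matrix.mul_apply, Fin.sum_univ_three, c1, c2, c3, hw]
  have hb3 : (suCyc : SU 3 F 2) ^ 3 = 1 := by
    apply su_ext
    rw [pow_three, suM_mul, suM_mul, suM_suCyc, suM_one]
    ext i j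
    fin_cases i <;> fin_cases j <;> simp [Matrix.mul_apply, Fin.sum_univ_three]
  have hab : a * suCyc = z * (suCyc * a) := by
    apply su_ext
    rw [suM_mul a, suM_mul z, suM_mul suCyc, haM, hzM, suM_suCyc]
    ext i j
    fin_cases i <;> fin_cases j <;> simp [Matrix.mul_apply, Fin.sum_univ_three, c2, hw]
  have hai : ∀ x : SU 2 F 2, suM x 0 0 = 0 → a * a * i01 x = i01 x * a := by
    intro x hx
    apply su_ext
    rw [suM_mul, suM_mul, suM_mul, haM, suM_i01]
    ext i j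
    fin_cases i <;> fin_cases j <;>
      simp [Matrix.mul_apply, Fin.sum_univ_three, c1, c2, hx, (su2_entries x).2, mul_comm]
  have hz1 : χ z ≠ 1 := fun h => by
    have := congrFun (hz (ue 0)) 0
    rw [hχ (h.trans (map_one χ).symm)] at this
    exact hw1 (by simpa [ue] using this.symm)
  have hz3 : χ z ^ 3 = 1 := by rw [← map_pow, scalar_pow hz, map_one]
  have hzc : ∀ x, χ z * χ x = χ x * χ z := fun x => by
    rw [← map_mul, scalar_comm hz, map_mul]
  have hcyc : ∀ x : SU 2 F 2, ∃ y, i12 x = suCyc * i01 y * suCyc⁻¹ := by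
    intro x
    have e : (suCyc : SU 3 F 2) • (ue 2 : Fin 3 → F) = ue 0 := by
      ext i
      fin_cases i <;> simp [su_smul_def, suM_suCyc, ue, mulVec, dotProduct, Fin.sum_univ_three]
    have h0 : i12 x ∈ MulAction.stabilizer (SU 3 F 2) (ue 0 : Fin 3 → F) :=
      by rw [stabilizer_ue0]; exact ⟨x, rfl⟩
    have : suCyc⁻¹ * i12 x * suCyc ∈ MulAction.stabilizer (SU 3 F 2) (ue 2 : Fin 3 → F) := by
      rw [MulAction.mem_stabilizer_iff, mul_smul, mul_smul, e, h0, ← e, inv_smul_smul]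
    rw [stabilizer_ue2] at this
    obtain ⟨y, hy⟩ := this
    exact ⟨y, by rw [hy]; group⟩
  replace ha3 : χ a ^ 3 = 1 := by rw [← map_pow, ha3, map_one]
  replace hb3 : χ suCyc ^ 3 = 1 := by rw [← map_pow, hb3, map_one]
  replace hab : χ a * χ suCyc = χ z * (χ suCyc * χ a) := by simp only [← map_mul, hab]
  replace hai : ∀ x : SU 2 F 2, suM x 0 0 = 0 → χ a * χ a * χ (i01 x) = χ (i01 x) * χ a :=
    fun x hx => by simp only [← map_mul, hai x hx]
  replace hcyc : ∀ x : SU 2 F 2, ∃ y, χ (i12 x) = χ suCyc * χ (i01 y) * (χ suCyc)⁻¹ := fun x => by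
    obtain ⟨y, hy⟩ := hcyc x
    exact ⟨y, by rw [hy, map_mul, map_mul, map_inv]⟩
  have hza := hzc a
  have hzb := hzc suCyc
  clear_value a z
  generalize χ a = A at *
  generalize χ suCyc = B at *
  generalize χ z = Z at *
  obtain ⟨r, hr⟩ : ∃ r : Fin 4 → F, Z • r ≠ r := by
    by_contra! h
    exact hz1 (su_ext_vec fun v => by rw [h, one_smul])
  obtain ⟨l, hl3, hl1, v, hv, hv0⟩ := exists_eig (S := ⊤) hz3 (fun _ _ => trivial) trivial hr
  have pres : ∀ u ∈ ⊤ ⊓ Eig Z l, A • u ∈ ⊤ ⊓ Eig Z l := fun u hu => ⟨trivial, by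
    change _ = _
    rw [← mul_smul, hza, mul_smul, show Z • u = l • u from hu.2, su_smul_smul]⟩
  obtain ⟨m, hm3, u, hu, hu0⟩ : ∃ m : F, m ^ 3 = 1 ∧ ∃ u ∈ ⊤ ⊓ Eig Z l ⊓ Eig A m, u ≠ 0 := by
    by_cases h : A • v = v
    · exact ⟨1, one_pow 3, v, ⟨hv, by change _ = _; rw [h, one_smul]⟩, hv0⟩
    · obtain ⟨m, h1, -, h2⟩ := exists_eig ha3 pres hv h
      exact ⟨m, h1, h2⟩
  obtain ⟨f, hf', f1⟩ := ((nd_top.inf_eig hz3 (fun _ _ => trivial) hl3).inf_eig ha3 pres
    hm3).exists_unit hu hu0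
  have step : ∀ (f : Fin 4 → F) (m : F), Z • f = l • f → A • f = m • f →
      Z • B • f = l • B • f ∧ A • B • f = (m * l) • B • f := by
    intro f m h1 h2
    have : Z • B • f = l • B • f := by rw [← mul_smul, hzb, mul_smul, h1, su_smul_smul]
    exact ⟨this, by rw [← mul_smul, hab, mul_smul, mul_smul, h2, su_smul_smul, su_smul_smul, this,
      smul_smul]⟩
  have hs : l ^ 2 + l + 1 = 0 := mul_left_cancel₀ (sub_ne_zero.2 hl1) (by linear_combination hl3)
  obtain ⟨f, f1, zf, af⟩ : ∃ f : Fin 4 → F, hf 2 f f = 1 ∧ Z • f = l • f ∧ A • f = l • f := by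
    have s1 := step f m hf'.1.2 hf'.2
    have s2 := step _ _ s1.1 s1.2
    have : (m - l) * ((m * l - l) * (m * l * l - l)) = 0 := by
      linear_combination (l ^ 3) * hm3 + (l ^ 2 * m - l ^ 2 * m ^ 2) * hs + (l ^ 2 * m - l ^ 2 * m ^ 2) * hl3 * 0
    rcases mul_eq_zero.1 this with h | h
    · exact ⟨f, f1, hf'.1.2, by rw [← sub_eq_zero.1 h]; exact hf'.2⟩
    rcases mul_eq_zero.1 h with h | h
    · exact ⟨B • f, by simpa using f1, s1.1, by rw [s1.2, sub_eq_zero.1 h]⟩
    · exact ⟨B • B • f, by simpa using f1, s2.1, by rw [s2.2, sub_eq_zero.1 h]⟩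
  have s1 := step f l zf af
  have s2 := step _ _ s1.1 s1.2
  rw [show l * l * l = 1 by linear_combination hl3] at s2
  have hl0 : l ≠ 0 := by rintro rfl; simp at hl3
  have n1 : l * l ≠ l := fun h => hl1 (mul_left_cancel₀ hl0 (h.trans (mul_one l).symm))
  have n2 : l * l ≠ 1 := fun h => hl1 (by linear_combination hl3 - l * h)
  have nl := norm_of_cube hl3
  obtain ⟨h, e0, e1, e2⟩ := exists_frame3 le_rfl f1 (y := B • f) (z := B • B • f)
    (by simpa using f1) (by simpa using f1) (eig_perp s1.2 af nl n1)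
    (eig_perp s2.2 af nl hl1.symm) (hf_eq_zero_comm (eig_perp s1.2 s2.2 (by simp) n2))
  have last : ∀ (y : SU 4 F 2) (a b c : F), a * b * c = 1 →
      y • h • (ue 0 : Fin 4 → F) = a • h • ue 0 → y • h • (ue 1 : Fin 4 → F) = b • h • ue 1 →
      y • h • (ue 2 : Fin 4 → F) = c • h • ue 2 → y • h • (ue 3 : Fin 4 → F) = h • ue 3 := by
    intro y a b c habc ha hb hc
    obtain ⟨d, h3, hd⟩ := last_eigen (g := h⁻¹ * y * h) (a := a) (b := b) (c := c)
      (by rw [mul_smul, mul_smul, ha, su_smul_smul, inv_smul_smul])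
      (by rw [mul_smul, mul_smul, hb, su_smul_smul, inv_smul_smul])
      (by rw [mul_smul, mul_smul, hc, su_smul_smul, inv_smul_smul])
    rw [habc, one_mul] at hd
    rwa [hd, one_smul, mul_smul, mul_smul, inv_smul_eq_iff] at h3
  have e2' : B⁻¹ • h • (ue 0 : Fin 4 → F) = h • ue 2 := by
    rw [inv_smul_eq_iff, e2, e0, ← mul_smul, ← mul_smul, ← pow_three', hb3, one_smul]
  rw [← e2] at s2
  rw [← e1] at s1
  rw [← e0] at zf af
  have z3 := last Z l l l (by linear_combination hl3) zf s1.1 s2.1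
  have key : ∀ (s : Set ℕ) (y : SU 4 F 2), (∀ l < 4, l ∉ s →
      y • h • (ue l : Fin 4 → F) = h • ue l) → h⁻¹ * y * h ∈ uFix 4 F 2 s := by
    intro s y hy l hl
    by_cases h4 : l < 4
    · rw [mul_smul, mul_smul, hy l h4 hl, inv_smul_smul]
    · simp [ue_of_le (not_lt.1 h4)]
  have dep : ∀ (k : ℕ) (v : Fin 4 → F), k < 4 → (∀ j < 4, j ≠ k → hf 2 v (h • ue j) = 0) →
      ∃ c : F, v = c • h • ue k := by
    intro k v hk hv
    refine ⟨hf 2 (h⁻¹ • v) (ue k), ?_⟩
    rw [← su_smul_smul, ← inv_smul_eq_iff]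
    refine usupp_one hk fun j hj => ?_
    by_cases h4 : j < 4
    · rw [← hf_smul_right', hv j h4 (by simp only [mem_Ico] at hj; omega)]
    · rw [ue_of_le (not_lt.1 h4), hf_zero_right]
  have u3 : hf 2 (h • (ue 3 : Fin 4 → F)) (h • ue 3) = 1 := by simpa using hf_ue_self (by norm_num)
  have u2 : hf 2 (h • (ue 2 : Fin 4 → F)) (h • ue 2) = 1 := by simpa using hf_ue_self (by norm_num)
  have F3 : ∀ x, χ x • h • (ue 3 : Fin 4 → F) = h • ue 3 := by
    refine gen_two (by norm_num) ((MulAction.stabilizer _ _).comap χ) fun x hx => ?_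
    have e : Z • χ x • h • (ue 3 : Fin 4 → F) = (1 : F) • χ x • h • ue 3 := by
      rw [← mul_smul, hzc, mul_smul, z3, one_smul]
    obtain ⟨c, hc⟩ := dep 3 (χ x • h • ue 3) (by norm_num) (fun j h4 h3 => by
      rcases (show j = 0 ∨ j = 1 ∨ j = 2 by omega) with rfl | rfl | rfl
      exacts [eig_perp e zf nl hl1.symm, eig_perp e s1.1 nl hl1.symm, eig_perp e s2.1 nl hl1.symm])
    exact eig_one_of_pow u3 hc (by rw [← map_pow, hx, map_one])
  have F2 : ∀ x, χ (i01 x) • h • (ue 2 : Fin 4 → F) = h • ue 2 := by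
    refine su2_ind ((MulAction.stabilizer _ _).comap (χ.comp i01)) fun x hx => ?_
    have e : (A * A) • χ (i01 x) • h • (ue 2 : Fin 4 → F) = (1 : F) • χ (i01 x) • h • ue 2 := by
      rw [← mul_smul, hai x hx, mul_smul, s2.2, one_smul, one_smul]
    obtain ⟨c, hc⟩ := dep 2 (χ (i01 x) • h • ue 2) (by norm_num) (fun j h4 h3 => by
      rcases (show j = 0 ∨ j = 1 ∨ j = 3 by omega) with rfl | rfl | rfl
      · refine eig_perp e (b := l * l) ?_ (by rw [map_mul]; linear_combination (l * cj 2 l + 1) * nl)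
          n2.symm
        rw [mul_smul, af, su_smul_smul, af, smul_smul]
      · refine eig_perp e (b := l) ?_ nl hl1.symm
        rw [mul_smul, s1.2, su_smul_smul, s1.2, smul_smul]
        congr 1
        linear_combination l * hl3
      · rw [hf_smul_ue_of_fix (F3 _), hf_smul_smul, hf_ue_ne (by norm_num)])
    exact eig_one_of_pow u2 hc (by
      rw [← map_pow, su2_four hx, map_one])
  refine ⟨h, fun x => key _ _ fun l h4 hl => ?_, fun x => key _ _ fun l h4 hl => ?_,
    fun x => key _ _ fun l h4 hl => ?_⟩ <;> simp only [mem_Ico, not_and, not_lt] at hl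
  · rw [show l = 3 by omega, F3]
  · rcases (show l = 2 ∨ l = 3 by omega) with rfl | rfl
    exacts [F2 x, F3 _]
  · rcases (show l = 0 ∨ l = 3 by omega) with rfl | rfl
    · obtain ⟨y, hy⟩ := hcyc x
      rw [hy, mul_smul, mul_smul, e2', F2, ← e2', smul_inv_smul]
    · exact F3 _

end Two

end Cfsg.Agent.Amalg
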