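import Mathlib
import Cfsg.Agent.Amalg.URec2

/-!
Phan's theorem for weak Phan systems over the field with four elements.
-/

set_option autoImplicit false

namespace Cfsg.Agent.Amalg

open Matrix Set MatrixGroups Cfsg.Agent.Pres

theorem exists_hom_lift {A B C : Type*} [Group A] [Group B] [Group C] {g : B →* C}
    (hg : Function.Injective g) (φ : A →* C) (h : ∀ x, φ x ∈ g.range) :
    ∃ χ : A →* B, ∀ x, g (χ x) = φ x := by
  choose t ht using h
  exact ⟨MonoidHom.mk' t fun x y => hg (by rw [map_mul, ht, ht, ht, map_mul]), ht⟩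

section General

variable {F : Type*} [Field F] [Fintype F] {q : ℕ} [hF : Fact (Fintype.card F = q ^ 2)]
  {G : Type*} [Group G]

theorem phanHom_block' {V A B : Subgroup G} {g : SU 4 F q →* G} (hg : Function.Injective g)
    {k : ℕ} (hk : k + 3 ≤ 4) (hV : (uFix 4 F q (Ico k (k + 3))).map g = V)
    (hA : (uFix 4 F q (Ico k (k + 2))).map g = A)
    (hB : (uFix 4 F q (Ico (k + 1) (k + 1 + 2))).map g = B) :
    PhanHom V A B (g.comp (suEmb (ivE 3 k hk))) := by
  refine ⟨fun z hz => ?_, ?_, ?_, ?_⟩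
  · have hi : Function.Injective (g.comp (suEmb (ivE 3 k hk))) :=
      hg.comp (suEmb_injective (ivE 3 k hk))
    rw [(injective_iff_map_eq_one _).1 hi z hz]
    exact one_mem _
  · rw [← hV, MonoidHom.range_comp]
    congr 1
    ext y
    exact (mem_uFix_Ico 3 k hk y).symm
  · rw [← hA]
    ext y
    constructor
    · rintro ⟨x, rfl⟩
      exact ⟨_, (mem_uFix_Ico 2 k (by omega) _).2 ⟨x, rfl⟩, by
        simp only [MonoidHom.comp_apply, i01, suEmb_comp, ivE_trans]; rfl⟩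
    · rintro ⟨y, hy, rfl⟩
      obtain ⟨x, rfl⟩ := (mem_uFix_Ico 2 k (by omega) _).1 hy
      exact ⟨x, by simp only [MonoidHom.comp_apply, i01, suEmb_comp, ivE_trans]; rfl⟩
  · rw [← hB]
    ext y
    constructor
    · rintro ⟨x, rfl⟩
      exact ⟨_, (mem_uFix_Ico 2 (k + 1) (by omega) _).2 ⟨x, rfl⟩, by
        simp only [MonoidHom.comp_apply, i12, suEmb_comp, ivE_trans]⟩
    · rintro ⟨y, hy, rfl⟩
      obtain ⟨x, rfl⟩ := (mem_uFix_Ico 2 (k + 1) (by omega) _).1 hy
      exact ⟨x, by simp only [MonoidHom.comp_apply, i12, suEmb_comp, ivE_trans]⟩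

theorem All.iso_dep {p p' : Fin 3 → F} (h0 : p ≠ 0) (hp : hf q p p = 0)
    (hp' : hf q p' p' = 0) (h : hf q p' p = 0) : ∃ a : F, p' = a • p := by
  obtain ⟨u, -, hu⟩ := (usupp_all (q := q) p).exists_hf h0
  obtain ⟨a, l, v1, v2⟩ := exists_unit_iso hp hu (s := 1) (map_one _) one_ne_zero
  generalize a • u + l • p = v at v1 v2
  have hpv := left_ne_zero_of_mul_eq_one v2
  have h' := hf_eq_zero_comm h
  obtain ⟨b, hb, hr⟩ := exists_normalize (q := q) (w := p - hf q p v • v) (by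
    simp [hp, v1, v2])
  obtain ⟨g, -, α, β, hβ, e1, e2⟩ := All.u_frame2 (M := 3) (k := 0) le_rfl (by norm_num)
    ⟨usupp_all v, v1⟩ ⟨usupp_all _, hr⟩ (uAdj_of_perp' (by simp [v1]))
  refine ⟨hf q p' v / hf q p v, ?_⟩
  have w1 : hf q (p' - (hf q p' v / hf q p v) • p) v = 0 := by simp [hpv]
  have w2 : hf q (p' - (hf q p' v / hf q p v) • p) p = 0 := by simp [h, hp]
  have w3 : hf q (p' - (hf q p' v / hf q p v) • p) (p' - (hf q p' v / hf q p v) • p) = 0 := by
    simp [h, hp, hp', h']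
  rw [← sub_eq_zero]
  generalize p' - (hf q p' v / hf q p v) • p = w at w1 w2 w3
  have s1 := usupp_of_perp (usupp_all (q := q) (g⁻¹ • w)) hβ
    (by rw [← hf_smul_right', e1, w1]) (by rw [← hf_smul_right', e2]; simp [w1, w2])
  have s2 : g⁻¹ • w = hf q (g⁻¹ • w) (ue 2) • ue 2 := by
    rw [← sub_eq_zero]
    apply vec_ext (q := q)
    intro l
    rw [usupp_sub_ue (by norm_num) s1 l (by simp), hf_zero_left]
  rw [← hf_smul_smul g⁻¹, s2, hf_smul_left, hf_smul_right, hf_ue_self (by norm_num)] at w3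
  have s3 : hf q (g⁻¹ • w) (ue 2) = 0 := by
    rcases mul_eq_zero.1 w3 with h | h
    · exact h
    · exact hf_eq_zero_comm (by simpa using h)
  rw [s3, zero_smul, inv_smul_eq_iff, smul_zero] at s2
  exact s2

theorem All.exists_isTv (h2 : (2 : F) = 0) {g : SU 3 F q} (hg : g * g = 1) (hg1 : g ≠ 1) :
    ∃ p, IsTv g p := by
  obtain ⟨v0, hv0⟩ : ∃ v0 : Fin 3 → F, g • v0 ≠ v0 := by
    by_contra! h
    exact hg1 (su_ext_ue fun l => by rw [h, one_smul])
  have hinv : g⁻¹ = g := inv_eq_of_mul_eq_one_right hg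
  have hadj : ∀ u v : Fin 3 → F, hf q (g • u - u) v = hf q u (g • v - v) := fun u v => by
    rw [hf_sub_left, hf_sub_right, hf_smul_left', hinv]
  have hN : ∀ u v : Fin 3 → F, hf q (g • u - u) (g • v - v) = 0 := fun u v => by
    rw [hadj, smul_sub, ← mul_smul, hg, one_smul]
    simp only [hf_sub_right]
    linear_combination (hf q u v - hf q u (g • v)) * h2
  have h0 : g • v0 - v0 ≠ 0 := sub_ne_zero.2 hv0
  have hdep : ∀ v, ∃ a : F, g • v - v = a • (g • v0 - v0) := fun v =>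
    All.iso_dep h0 (hN _ _) (hN _ _) (hN _ _)
  refine ⟨g • v0 - v0, h0, hN _ _, ⟨v0, rfl⟩, hdep, fun v hv => ?_⟩
  obtain ⟨u, -, hu⟩ := (usupp_all (q := q) _).exists_hf h0
  obtain ⟨a, ha⟩ := hdep v
  obtain ⟨b, hb⟩ := hdep u
  rw [hadj, hb, hf_smul_right] at hu
  rw [← hadj, ha, hf_smul_left, mul_eq_zero] at hv
  rcases hv with hv | hv
  · rwa [hv, zero_smul, sub_eq_zero] at ha
  · exact absurd (hf_eq_zero_comm hv) (right_ne_zero_of_mul hu)

end General

section Two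

variable {F : Type*} [Field F] [Fintype F] [hF : Fact (Fintype.card F = 2 ^ 2)]
  {G : Type*} [Group G] {N : ℕ}

theorem suM_diag3 {a b : F} (ha : a * cj 2 a + 0 * cj 2 0 = 1) (hb : b * cj 2 b + 0 * cj 2 0 = 1) :
    suM (i01 (su2 a 0 ha) * i12 (su2 b 0 hb)) = !![a, 0, 0; 0, cj 2 a * b, 0; 0, 0, cj 2 b] := by
  rw [suM_mul, suM_i01, suM_i12, suM_su2, suM_su2]
  ext i j
  fin_cases i <;> fin_cases j <;> simp [Matrix.mul_apply, Fin.sum_univ_three]

theorem PhanHom.inj_left {V0 V1 U0 U1 U2 : Subgroup G} {φ ψ : SU 3 F 2 →* G}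
    (h0 : PhanHom V0 U0 U1 φ) (h1 : PhanHom V1 U1 U2 ψ)
    (hc : ∀ x ∈ U0, ∀ y ∈ U2, x * y = y * x) : Function.Injective φ := by
  rw [injective_iff_map_eq_one]
  intro z hz
  have hM := su3_center (h0.ker hz)
  generalize suM z 0 0 = l at hM
  have hd := suM_det z
  rw [hM, det_smul, det_one, mul_one, Fintype.card_fin] at hd
  have nl := norm_of_cube hd
  have ha : l * cj 2 l + 0 * cj 2 0 = 1 := by simpa using nl
  have hb : cj 2 l * cj 2 (cj 2 l) + 0 * cj 2 0 = 1 := by simpa [mul_comm] using nl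
  have c1 : cj 2 l * cj 2 l = l := by rw [cj_apply]; linear_combination l * hd
  have e : z = i01 (su2 l 0 ha) * i12 (su2 (cj 2 l) 0 hb) := by
    apply su_ext
    rw [suM_diag3, hM]
    ext i j
    fin_cases i <;> fin_cases j <;> simp [c1]
  rw [e, map_mul, mul_eq_one_iff_eq_inv] at hz
  obtain ⟨y, hy⟩ : φ (i01 (su2 l 0 ha)) ∈ (ψ.comp i01).range := by
    rw [h1.left, ← h0.right, hz]
    exact inv_mem ⟨_, rfl⟩
  have hcm := hc (φ (i01 (su2 l 0 ha))) (h0.left ▸ ⟨_, rfl⟩) (ψ (i12 suW)) (h1.right ▸ ⟨_, rfl⟩)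
  simp only [MonoidHom.comp_apply] at hy
  rw [← hy] at hcm
  obtain ⟨m, hm⟩ := center_scalar3 (h1.ker (show (i12 suW * i01 y)⁻¹ * (i01 y * i12 suW) ∈ ψ.ker by
    rw [MonoidHom.mem_ker, map_mul, map_inv, map_mul, map_mul, hcm, inv_mul_cancel]))
  rw [eq_one_of_comm_suW hm, map_one, map_one] at hy
  have := congrFun (congrFun (congrArg suM (i01_inj h0.ker (hy.symm.trans (map_one _).symm))) 0) 0
  simp only [suM_su2, suM_one, of_apply, cons_val', cons_val_zero, cons_val_fin_one,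
    one_apply_eq] at this
  apply su_ext
  rw [hM, this, one_smul, suM_one]

theorem PhanHom.inj_right {V0 V1 U0 U1 U2 : Subgroup G} {φ ψ : SU 3 F 2 →* G}
    (h0 : PhanHom V0 U0 U1 φ) (h1 : PhanHom V1 U1 U2 ψ)
    (hc : ∀ x ∈ U0, ∀ y ∈ U2, x * y = y * x) : Function.Injective ψ := by
  have := h1.flip.inj_left h0.flip fun x hx y hy => (hc y hy x hx).symm
  intro x y h
  rw [← suFlip_suFlip 3 x, ← suFlip_suFlip 3 y] at h ⊢
  rw [this h]

theorem invol_fix {t : SU 3 F 2} (ht : t * t = 1) :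
    ∃ i : Fin 3, t • (ue i : Fin 3 → F) = ue i := by
  by_cases h1 : t = 1
  · exact ⟨0, by rw [h1, one_smul]⟩
  obtain ⟨p, hp⟩ := All.exists_isTv two_eq_zero2 ht h1
  obtain ⟨i, hi⟩ : ∃ i, p i = 0 := by
    by_contra! h
    have := hp.iso
    rw [hf, Fin.sum_univ_three, norm_two (h 0), norm_two (h 1), norm_two (h 2)] at this
    exact one_ne_zero (by linear_combination this - two_eq_zero2 (F := F) : (1 : F) = 0)
  exact ⟨i, hp.fix _ (hf_eq_zero_comm (by rw [hf_ue_fin, hi]))⟩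

theorem scalar_of_comm_invol {κ : SU 3 F 2} (h : ∀ t, t * t = 1 → κ * t = t * κ) :
    ∃ l : F, ∀ v : Fin 3 → F, κ • v = l • v := by
  obtain ⟨w, hw, hw3, hw1⟩ := exists_cube_root (F := F)
  have hw' : 0 * cj 2 0 + w * cj 2 w = 1 := by simpa using hw
  have n1 : w - 1 ≠ 0 := sub_ne_zero.2 hw1
  have n2 : cj 2 w - 1 ≠ 0 := fun e => n1 (by rw [sub_eq_zero.1 e, mul_one] at hw; simp [hw])
  have a1 := congrArg suM (h (i01 suW) (by rw [← map_mul, su2_sq (by simp [suW, suM_su2]), map_one]))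
  have a2 := congrArg suM (h (i12 suW) (by rw [← map_mul, su2_sq (by simp [suW, suM_su2]), map_one]))
  have a3 := congrArg suM (h (i01 (su2 0 w hw'))
    (by rw [← map_mul, su2_sq (by simp [suM_su2]), map_one]))
  have a4 := congrArg suM (h (i12 (su2 0 w hw'))
    (by rw [← map_mul, su2_sq (by simp [suM_su2]), map_one]))
  simp only [suM_mul, suM_i01, suM_i12, suW, suM_su2] at a1 a2 a3 a4
  have b1 := congrFun (congrFun a1 2) 0
  have b2 := congrFun (congrFun a3 2) 0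
  have b3 := congrFun (congrFun a1 0) 2
  have b4 := congrFun (congrFun a3 0) 2
  have b5 := congrFun (congrFun a2 0) 1
  have b6 := congrFun (congrFun a2 1) 0
  have b7 := congrFun (congrFun a1 0) 1
  have b8 := congrFun (congrFun a2 1) 2
  simp [Matrix.mul_apply, Fin.sum_univ_three] at b1 b2 b3 b4 b5 b6 b7 b8
  have c21 : suM κ 2 1 = 0 := (mul_eq_zero.1 (show (w - 1) * _ = 0 by
    linear_combination b2 - b1)).resolve_left n1
  have c12 : suM κ 1 2 = 0 := (mul_eq_zero.1 (show (cj 2 w - 1) * _ = 0 by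
    linear_combination b4 - b3)).resolve_left n2
  have hM : suM κ = suM κ 0 0 • 1 := by
    ext i j
    fin_cases i <;> fin_cases j <;> simp [c21, c12, ← b1, b3, b5.symm.trans b3, b6, b7, b8]
  exact ⟨suM κ 0 0, fun v => by
    conv_lhs => rw [su_smul_def, hM]
    rw [smul_mulVec, one_mulVec]⟩

theorem su3_rigid {θ σ : SU 3 F 2 →* SU 3 F 2} (hσ : Function.Injective σ)
    (h0 : ∀ x, θ (i01 x) = σ (i01 x)) (h1 : ∀ x, θ (i12 x) = σ (i12 x)) : θ = σ := by
  haveI := finite_SU (N := 3) (F := F) (q := 2)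
  have hs := Finite.injective_iff_surjective.1 hσ
  have f0 : ∀ t : SU 3 F 2, t • (ue 0 : Fin 3 → F) = ue 0 → θ t = σ t := fun t ht => by
    obtain ⟨x, rfl⟩ : t ∈ (i12 : SU 2 F 2 →* SU 3 F 2).range := by rwa [← stabilizer_ue0]
    exact h1 x
  have f2 : ∀ t : SU 3 F 2, t • (ue 2 : Fin 3 → F) = ue 2 → θ t = σ t := fun t ht => by
    obtain ⟨x, rfl⟩ : t ∈ (i01 : SU 2 F 2 →* SU 3 F 2).range := by rwa [← stabilizer_ue2]
    exact h0 x
  have f1 : ∀ t : SU 3 F 2, t • (ue 1 : Fin 3 → F) = ue 1 → θ t = σ t := fun t ht => by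
    have e : (i01 suW : SU 3 F 2) • (ue 0 : Fin 3 → F) = ue 1 := by
      ext i
      fin_cases i <;>
        simp [su_smul_def, suM_i01, suW, suM_su2, ue, mulVec, dotProduct, Fin.sum_univ_three]
    have := f0 ((i01 suW)⁻¹ * t * i01 suW) (by rw [mul_smul, mul_smul, e, ht, ← e, inv_smul_smul])
    simpa [h0] using this
  have fi : ∀ t : SU 3 F 2, t * t = 1 → θ t = σ t := fun t ht => by
    obtain ⟨i, hi⟩ := invol_fix ht
    fin_cases i
    exacts [f0 t hi, f1 t hi, f2 t hi]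
  ext1 x
  refine gen_two (by norm_num) (θ.eqLocus σ) (fun x hx => ?_) x
  obtain ⟨l, hl⟩ := scalar_of_comm_invol (κ := (σ x)⁻¹ * θ x) (fun s hs' => by
    obtain ⟨t, rfl⟩ := hs s
    have ht : t * t = 1 := hσ (by rw [map_mul, hs', map_one])
    have := fi (x * t * x⁻¹) (by
      calc _ = x * (t * t) * x⁻¹ := by group
        _ = 1 := by rw [ht]; group)
    simp only [map_mul, map_inv, fi t ht] at this
    calc _ = (σ x)⁻¹ * (θ x * σ t * (θ x)⁻¹) * θ x := by group
      _ = _ := by rw [this]; group)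
  have a3 := scalar_pow hl
  have a4 : ((σ x)⁻¹ * θ x) ^ 4 = 1 := by
    have := Commute.mul_pow (scalar_comm hl (σ x)).symm 4
    rwa [mul_inv_cancel_left, ← map_pow, ← map_pow, hx, map_one, map_one, one_mul, eq_comm] at this
  rw [pow_succ, a3, one_mul, inv_mul_eq_one] at a4
  exact a4.symm

theorem su2_aut_two (θ : SU 2 F 2 →* SU 2 F 2) (hθ : Function.Injective θ) :
    ∃ (δ : F) (τ : F →+* F), δ * cj 2 δ = 1 ∧
      ∀ x i j, suM (θ x) i j = ![δ, 1] i * τ (suM x i j) * cj 2 (![δ, 1] j) := by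
  refine su2_aut_torus θ hθ fun a ha => (su2_cases _).elim (fun h => ?_) id
  have h2 := su2_sq h
  have h3 : su2 a 0 ha * su2 a 0 ha * su2 a 0 ha = 1 := by
    have e1 : a * cj 2 a = 1 := by simpa using ha
    have e2 : a * a * a = 1 := by rw [cj_apply] at e1; linear_combination e1
    have e3 : cj 2 a * cj 2 a * cj 2 a = 1 := by rw [← map_mul, ← map_mul, e2, map_one]
    apply su_ext
    rw [suM_mul, suM_mul, suM_su2, suM_one]
    ext i j
    fin_cases i <;> fin_cases j <;> simp [Matrix.mul_apply, Fin.sum_univ_two, e2, e3]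
  have := congrArg θ h3
  rw [map_mul, map_mul, h2, one_mul, map_one] at this
  rw [this, suM_one]
  simp

theorem su3_aut {θ : SU 3 F 2 →* SU 3 F 2} (hθ : Function.Injective θ)
    (h0 : ∀ x, θ (i01 x) ∈ (i01 : SU 2 F 2 →* SU 3 F 2).range)
    (h1 : ∀ x, θ (i12 x) ∈ (i12 : SU 2 F 2 →* SU 3 F 2).range) :
    ∃ (d : Fin 3 → F) (hd : ∀ i, d i * cj 2 (d i) = 1) (τ : F →+* F), θ = suAut d hd τ := by
  haveI := finite_SU (N := 3) (F := F) (q := 2)
  obtain ⟨θ0, e0⟩ := exists_hom_lift (g := i01) (suEmb_injective _) (θ.comp i01) h0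
  obtain ⟨θ1, e1⟩ := exists_hom_lift (g := i12) (suEmb_injective _) (θ.comp i12) h1
  simp only [MonoidHom.comp_apply] at e0 e1
  obtain ⟨δ, τ, hδ, a0⟩ := su2_aut_two θ0 fun x y h => suEmb_injective _
    (hθ ((e0 x).symm.trans ((congrArg i01 h).trans (e0 y))))
  obtain ⟨δ', τ', hδ', a1⟩ := su2_aut_two θ1 fun x y h => suEmb_injective _
    (hθ ((e1 x).symm.trans ((congrArg i12 h).trans (e1 y))))
  have hτ : τ' = τ := by
    ext l
    by_cases hl : l = 0
    · simp [hl]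
    have nl := norm_two hl
    have ha : l * cj 2 l + 0 * cj 2 0 = 1 := by simpa using nl
    have hb : cj 2 l * cj 2 (cj 2 l) + 0 * cj 2 0 = 1 := by simpa [mul_comm] using nl
    have c1 : cj 2 l * cj 2 l = l := by rw [cj_apply] at nl ⊢; linear_combination l * nl
    have hz : ∀ v : Fin 3 → F, (i01 (su2 l 0 ha) * i12 (su2 (cj 2 l) 0 hb)) • v = l • v := by
      intro v
      have : suM (i01 (su2 l 0 ha) * i12 (su2 (cj 2 l) 0 hb)) = l • 1 := by
        rw [suM_diag3]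
        ext i j
        fin_cases i <;> fin_cases j <;> simp [c1]
      rw [su_smul_def, this, smul_mulVec, one_mulVec]
    have hc := su3_center (z := θ (i01 (su2 l 0 ha) * i12 (su2 (cj 2 l) 0 hb)))
      (Subgroup.mem_center_iff.2 fun y => by
        obtain ⟨y, rfl⟩ := Finite.injective_iff_surjective.1 hθ y
        rw [← map_mul, ← map_mul, scalar_comm hz])
    have := congrFun (congrFun hc 2) 2
    rw [map_mul, ← e0, ← e1, suM_mul, suM_i01, suM_i12] at this
    simp [Matrix.mul_apply, Fin.sum_univ_three, a0, a1, suM_su2] at this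
    rw [this]
    linear_combination τ l * hδ
  subst hτ
  have hd : ∀ i, (![δ * δ', δ', 1] : Fin 3 → F) i * cj 2 (![δ * δ', δ', 1] i) = 1 := by
    intro i
    fin_cases i <;> simp [hδ']
    linear_combination δ * cj 2 δ * hδ' + hδ
  refine ⟨_, hd, τ', su3_rigid (suAut_injective _ _ _) (fun x => ?_) (fun x => ?_)⟩
  · rw [← e0, i01, suAut_suEmb]
    congr 1
    apply su_ext
    ext i j
    rw [suM_suAut, a0]
    generalize τ' (suM x i j) = t
    fin_cases i <;> fin_cases j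
    · change δ * _ * cj 2 δ = δ * δ' * _ * cj 2 (δ * δ')
      rw [map_mul]; linear_combination (-δ * t * cj 2 δ) * hδ'
    · change δ * _ * cj 2 1 = δ * δ' * _ * cj 2 δ'
      rw [map_one]; linear_combination (-δ * t) * hδ'
    · change 1 * _ * cj 2 δ = δ' * _ * cj 2 (δ * δ')
      rw [map_mul]; linear_combination (-t * cj 2 δ) * hδ'
    · change 1 * _ * cj 2 1 = δ' * _ * cj 2 δ'
      rw [map_one]; linear_combination (-t) * hδ'
  · rw [← e1, i12, suAut_suEmb]
    congr 1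
    apply su_ext
    ext i j
    rw [suM_suAut, a1]
    fin_cases i <;> fin_cases j <;> rfl

theorem rec2 {V0 V1 U0 U1 U2 : Subgroup G} {φ ψ : SU 3 F 2 →* G} (h0 : PhanHom V0 U0 U1 φ)
    (h1 : PhanHom V1 U1 U2 ψ) (hc : ∀ x ∈ U0, ∀ y ∈ U2, x * y = y * x) (g : SU 4 F 2 →* G)
    (hg : g.range = V0 ⊔ V1) : ∃ g : SU 4 F 2 →* G, Function.Injective g ∧
      PhanHom V0 U0 U1 (g.comp (suEmb (ivE 3 0 (by norm_num)))) ∧
      PhanHom V1 U1 U2 (g.comp (suEmb (ivE 3 1 (by norm_num)))) := by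
  have hφ := h0.inj_left h1 hc
  have hψ := h0.inj_right h1 hc
  have hφg : ∀ x, φ x ∈ g.range := fun x => by
    rw [hg, ← h0.range]; exact Subgroup.mem_sup_left ⟨_, rfl⟩
  have hψg : ∀ x, ψ x ∈ g.range := fun x => by
    rw [hg, ← h1.range]; exact Subgroup.mem_sup_right ⟨_, rfl⟩
  have hgi : Function.Injective g := by
    rcases su_normal (N := 4) le_rfl g.ker with h | h
    · rw [injective_iff_map_eq_one]
      intro z hz
      obtain ⟨l, hl⟩ := h z hz
      exact su_ext_ue fun k => by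
        by_cases hk : k < 4
        · rw [eig_one_of_pow (hf_ue_self hk) (hl _) (scalar_pow hl), one_smul]
        · simp [ue_of_le (not_lt.1 hk)]
    · exfalso
      obtain ⟨x, hx⟩ := hφg (i01 suW)
      rw [show g x = 1 from (h ▸ Subgroup.mem_top x : x ∈ g.ker)] at hx
      have := congrFun (congrFun (congrArg suM (i01_inj h0.ker (hx.symm.trans (map_one _).symm))) 0) 0
      simp [suW, suM_su2, suM_one] at this
  obtain ⟨χ0, e0⟩ := exists_hom_lift hgi φ hφg
  obtain ⟨h, a0, a1, a2⟩ := su3_in_su4 χ0 fun x y e => hφ (by rw [← e0, e, e0])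
  have hgi' : Function.Injective (g.comp (MulAut.conj h).toMonoidHom) :=
    hgi.comp (MulAut.conj h).injective
  have hg' : (g.comp (MulAut.conj h).toMonoidHom).range = V0 ⊔ V1 := by
    rw [MonoidHom.range_comp, MonoidHom.range_eq_top.2 (MulAut.conj h).surjective,
      ← MonoidHom.range_eq_map, hg]
  obtain ⟨χ, e⟩ : ∃ χ : SU 3 F 2 →* SU 4 F 2, ∀ x, χ x = h⁻¹ * χ0 x * h :=
    ⟨(MulAut.conj h⁻¹).toMonoidHom.comp χ0, fun x => by simp⟩
  have e0' : ∀ x, (g.comp (MulAut.conj h).toMonoidHom) (χ x) = φ x := fun x => by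
    simp [e, ← e0, mul_assoc]
  simp only [← e] at a0 a1 a2
  clear e e0 hφg hψg hg hgi
  generalize g.comp (MulAut.conj h).toMonoidHom = g at *
  clear h χ0
  have hχ : Function.Injective χ := fun x y e => hφ (by rw [← e0', e, e0'])
  obtain ⟨χ', e1⟩ := exists_hom_lift hgi' ψ fun x => by
    rw [hg', ← h1.range]; exact Subgroup.mem_sup_right ⟨_, rfl⟩
  have hχ' : Function.Injective χ' := fun x y e => hψ (by rw [← e1, e, e1])
  have c0 : g.comp χ = φ := MonoidHom.ext e0'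
  have c1 : g.comp χ' = ψ := MonoidHom.ext e1
  have r0 := range_eq_block (k := 0) (by norm_num) hχ a0
  have r1 := range_eq_block (k := 0) (η := χ.comp i01) (by norm_num)
    (hχ.comp (suEmb_injective _)) a1
  have r2 := range_eq_block (k := 1) (η := χ.comp i12) (by norm_num)
    (hχ.comp (suEmb_injective _)) a2
  have m0 : (uFix 4 F 2 (Ico 0 (0 + 3))).map g = V0 := by
    rw [← r0, ← MonoidHom.range_comp, c0, h0.range]
  have m1 : (uFix 4 F 2 (Ico 0 (0 + 2))).map g = U0 := by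
    rw [← r1, ← MonoidHom.range_comp, ← MonoidHom.comp_assoc, c0, h0.left]
  have m2 : (uFix 4 F 2 (Ico 1 (1 + 2))).map g = U1 := by
    rw [← r2, ← MonoidHom.range_comp, ← MonoidHom.comp_assoc, c0, h0.right]
  obtain ⟨h, b0, -, -⟩ := su3_in_su4 χ' hχ'
  have hw : ∀ x, χ' x • h • (ue 3 : Fin 4 → F) = h • ue 3 := fun x => by
    have := b0 x 3 (by simp)
    rwa [mul_smul, mul_smul, inv_smul_eq_iff] at this
  have hw1 : hf 2 (h • (ue 3 : Fin 4 → F)) (h • ue 3) = 1 := by simpa using hf_ue_self (by norm_num)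
  generalize h • (ue 3 : Fin 4 → F) = w at hw hw1
  obtain ⟨o, ho, ho3, ho1⟩ := exists_cube_root (F := F)
  have ho' : o * cj 2 o + 0 * cj 2 0 = 1 := by simpa using ho
  obtain ⟨y, hy⟩ : g (suEmb (ivE 2 1 (by norm_num)) (su2 o 0 ho')) ∈ (ψ.comp i01).range := by
    rw [h1.left, ← m2]
    exact ⟨_, (mem_uFix_Ico 2 1 _ _).2 ⟨_, rfl⟩, rfl⟩
  have hy' := hw (i01 y)
  rw [hgi' ((e1 _).trans hy)] at hy'
  replace hy' := hy'.trans (one_smul F w).symm
  have w1 : w 1 = 0 := (hf_ue_fin (q := 2) w 1).symm.trans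
    (eig_perp hy' (b := o) (by
      have := suEmb_su2_smul (N := 4) (k := 1) (by norm_num) o 0 ho'
      simpa using this) ho ho1.symm)
  have w2 : w 2 = 0 := (hf_ue_fin (q := 2) w 2).symm.trans
    (eig_perp hy' (b := cj 2 o) (by
      have := suEmb_su2_smul' (N := 4) (k := 1) (by norm_num) o 0 ho'
      simpa using this) (by simpa [mul_comm] using ho) (fun e => ho1 (by rwa [← e, mul_one] at ho)))
  have w3 : w 3 = 0 := by
    by_contra w3
    have w0 : w 0 = 0 := by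
      by_contra w0
      rw [hf, Fin.sum_univ_four, norm_two w0, norm_two w3, w1, w2] at hw1
      simp at hw1
    have ew : w = w 3 • ue 3 := by
      ext i
      fin_cases i <;> simp [ue, w0, w1, w2]
    have : ∀ x : SU 4 F 2, x • (ue 3 : Fin 4 → F) = ue 3 := by
      intro x
      have hx : g x ∈ V0 ⊔ V1 := hg' ▸ ⟨x, rfl⟩
      rw [← h0.range, ← h1.range, ← c0, ← c1, MonoidHom.range_comp, MonoidHom.range_comp,
        ← Subgroup.map_sup, Subgroup.mem_map_iff_mem hgi'] at hx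
      refine (sup_le ?_ ?_ : χ.range ⊔ χ'.range ≤ MulAction.stabilizer _ (ue 3 : Fin 4 → F)) hx
      · rintro _ ⟨x, rfl⟩
        exact a0 x 3 (by simp)
      · rintro _ ⟨x, rfl⟩
        have := hw x
        rw [ew, su_smul_smul] at this
        exact smul_right_injective _ w3 this
    obtain ⟨t, -, ht⟩ := All.u_trans (N := 4) (q := 2) (F := F) (k := 0) le_rfl (by norm_num)
      (y := ue 3) ⟨usupp_univ _, hf_ue_self (by norm_num)⟩
    have := congrFun ((smul_left_cancel_iff t).1 (ht.trans (this t).symm)) 0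
    simp [ue] at this
  have w0 : w 0 ≠ 0 := fun w0 => by
    rw [hf, Fin.sum_univ_four, w0, w1, w2, w3] at hw1
    simp at hw1
  have f0 : ∀ x, χ' x • (ue 0 : Fin 4 → F) = ue 0 := fun x => by
    have ew : w = w 0 • ue 0 := by
      ext i
      fin_cases i <;> simp [ue, w1, w2, w3]
    have := hw x
    rw [ew, su_smul_smul] at this
    exact smul_right_injective _ w0 this
  have d0 : ∀ x, χ' x ∈ uFix 4 F 2 (Ico 1 (1 + 3)) := fun x =>
    mem_uFix_succ (k := 0) (mem_uFix_univ _) (f0 x)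
  have d1 : ∀ x, χ' (i12 x) ∈ uFix 4 F 2 (Ico 2 (2 + 2)) := fun x => by
    refine mem_uFix_succ (k := 1) (d0 _) ?_
    obtain ⟨s, hs, es⟩ := exists_B_smul (N := 4) (k := 0) (q := 2) (by norm_num) (0 : F) 1 (by simp)
    rw [zero_smul, zero_add, one_smul] at es
    have := hc (g s) (m1 ▸ ⟨s, hs, rfl⟩) (ψ (i12 x)) (h1.right ▸ ⟨x, rfl⟩)
    rw [← e1, ← map_mul, ← map_mul] at this
    rw [← es, ← mul_smul, ← hgi' this, mul_smul, f0]
  have m3 : (uFix 4 F 2 (Ico 1 (1 + 3))).map g = V1 := by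
    rw [← range_eq_block (k := 1) (by norm_num) hχ' d0, ← MonoidHom.range_comp, c1, h1.range]
  have m4 : (uFix 4 F 2 (Ico 2 (2 + 2))).map g = U2 := by
    rw [← range_eq_block (k := 2) (η := χ'.comp i12) (by norm_num)
      (hχ'.comp (suEmb_injective _)) d1, ← MonoidHom.range_comp, ← MonoidHom.comp_assoc, c1,
      h1.right]
  exact ⟨g, hgi', phanHom_block' hgi' _ m0 m1 m2, phanHom_block' hgi' _ m3 m2 m4⟩

theorem rec2_glue {V0 V1 U0 U1 U2 : Subgroup G} {φ ψ : SU 3 F 2 →* G} (h0 : PhanHom V0 U0 U1 φ)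
    (h1 : PhanHom V1 U1 U2 ψ) (hc : ∀ x ∈ U0, ∀ y ∈ U2, x * y = y * x) (g : SU 4 F 2 →* G)
    (hg : g.range = V0 ⊔ V1) : ∃ g : SU 4 F 2 →* G,
      PhanHom V0 U0 U1 (g.comp (suEmb (ivE 3 0 (by norm_num)))) ∧
      g.comp (suEmb (ivE 3 1 (by norm_num))) = ψ := by
  obtain ⟨γ, hγ, a0, a1⟩ := rec2 h0 h1 hc g hg
  have hi : Function.Injective (γ.comp (suEmb (ivE 3 1 (by norm_num : 1 + 3 ≤ 4)))) :=
    hγ.comp (suEmb_injective _)
  obtain ⟨θ, e⟩ := exists_hom_lift hi ψ fun x => by rw [a1.range, ← h1.range]; exact ⟨x, rfl⟩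
  obtain ⟨d, hd, τ, rfl⟩ := su3_aut (θ := θ)
    (fun x y h => h0.inj_right h1 hc (by rw [← e, h, e]))
    (fun x => by
      obtain ⟨y, hy⟩ := (a1.left.trans h1.left.symm).ge ⟨x, rfl⟩
      exact ⟨y, hi (hy.trans (e _).symm)⟩)
    (fun x => by
      obtain ⟨y, hy⟩ := (a1.right.trans h1.right.symm).ge ⟨x, rfl⟩
      exact ⟨y, hi (hy.trans (e _).symm)⟩)
  have hd' : ∀ i, (![1, d 0, d 1, d 2] : Fin 4 → F) i * cj 2 (![1, d 0, d 1, d 2] i) = 1 := by
    intro i
    fin_cases i <;> simp [hd]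
  refine ⟨γ.comp (suAut _ hd' τ), ?_, ?_⟩
  · convert a0.comp_suAut (![1, d 0, d 1, d 2] ∘ ivE 3 0 (by norm_num)) (fun i => hd' _) τ using 1
    ext x
    simp only [MonoidHom.comp_apply, suAut_suEmb]
  · ext x
    rw [← e]
    simp only [MonoidHom.comp_apply, suAut_suEmb]
    congr 2
    apply su_ext
    ext i j
    rw [suM_suAut, suM_suAut]
    generalize τ (suM x i j) = t
    fin_cases i <;> fin_cases j <;> rfl

/-- Phan's theorem for weak Phan systems over the field with four elements. -/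
theorem phan_main2 {n : ℕ} (hn : 3 ≤ n) (U V : ℕ → Subgroup G)
    (hP : ∀ i, i + 2 ≤ n → ∃ φ : SU 3 F 2 →* G, PhanHom (V i) (U i) (U (i + 1)) φ)
    (hc : ∀ i j, i + 2 ≤ j → j < n → ∀ x ∈ U i, ∀ y ∈ U j, x * y = y * x)
    (h4 : ∀ i, i + 3 ≤ n → ∃ g : SU 4 F 2 →* G, g.range = V i ⊔ V (i + 1))
    (h5 : ∀ i j, i + 2 ≤ j → j + 2 ≤ n → ∀ x ∈ U i, ∀ y ∈ V j, x * y = y * x)
    (h5' : ∀ i j, i + 3 ≤ j → j < n → ∀ x ∈ U j, ∀ y ∈ V i, x * y = y * x)
    (h6 : ∀ i j, i + 3 ≤ j → j + 2 ≤ n → ∀ x ∈ V i, ∀ y ∈ V j, x * y = y * x) :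
    ∃ Φ : SU (n + 1) F 2 →* G, ∀ i, i + 2 ≤ n → V i ≤ Φ.range := by
  classical
  have key : ∀ d m, m + 2 + d = n → ∃ (φ : ℕ → (SU 3 F 2 →* G)) (γ : ℕ → (SU 4 F 2 →* G)),
      (∀ i, m ≤ i → i + 2 ≤ n → PhanHom (V i) (U i) (U (i + 1)) (φ i)) ∧
      (∀ i, m ≤ i → i + 3 ≤ n → (γ i).comp (suEmb (ivE 3 0 (by norm_num))) = φ i ∧
        (γ i).comp (suEmb (ivE 3 1 (by norm_num))) = φ (i + 1)) := by
    intro d
    induction d with
    | zero =>
      intro m hm
      obtain ⟨φ, hφ⟩ := hP m (by omega)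
      exact ⟨fun _ => φ, fun _ => 1, fun i h1 h2 => by rwa [show i = m by omega],
        fun i h1 h2 => by omega⟩
    | succ d ih =>
      intro m hm
      obtain ⟨φ, γ, a1, a2⟩ := ih (m + 1) (by omega)
      obtain ⟨ψ, hψ⟩ := hP m (by omega)
      obtain ⟨g, hg⟩ := h4 m (by omega)
      obtain ⟨g', b1, b2⟩ := rec2_glue hψ (a1 (m + 1) le_rfl (by omega))
        (hc m (m + 2) le_rfl (by omega)) g hg
      refine ⟨Function.update φ m (g'.comp (suEmb (ivE 3 0 (by norm_num)))),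
        Function.update γ m g', fun i hi hi' => ?_, fun i hi hi' => ?_⟩
      · by_cases e : i = m
        · subst e; rwa [Function.update_self]
        · rw [Function.update_of_ne e]; exact a1 i (by omega) hi'
      · rw [Function.update_of_ne (show i + 1 ≠ m by omega)]
        by_cases e : i = m
        · subst e; rw [Function.update_self, Function.update_self]; exact ⟨rfl, b2⟩
        · rw [Function.update_of_ne e, Function.update_of_ne e]; exact a2 i (by omega) hi'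
  obtain ⟨φ, γ, h1, h2⟩ := key (n - 2) 0 (by omega)
  let α : ℕ → SU (n + 1) F 2 → G := fun i g =>
    if h : i + 3 ≤ n + 1 then φ i (Function.invFun (suEmb (ivE 3 i h)) g) else 1
  let β : ℕ → SU (n + 1) F 2 → G := fun i g =>
    if h : i + 4 ≤ n + 1 then γ i (Function.invFun (suEmb (ivE 4 i h)) g) else 1
  have hα : ∀ i (h : i + 3 ≤ n + 1) x, α i (suEmb (ivE 3 i h) x) = φ i x := by
    intro i h x
    simp only [α, dif_pos h]
    rw [Function.leftInverse_invFun (suEmb_injective _)]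
  have hβ : ∀ i (h : i + 4 ≤ n + 1) x, β i (suEmb (ivE 4 i h) x) = γ i x := by
    intro i h x
    simp only [β, dif_pos h]
    rw [Function.leftInverse_invFun (suEmb_injective _)]
  have mV : ∀ i, i + 3 ≤ n + 1 → ∀ g ∈ uFix (n + 1) F 2 (Ico i (i + 3)), α i g ∈ V i := by
    intro i h g hg
    obtain ⟨x, rfl⟩ := (mem_uFix_Ico 3 i h g).1 hg
    rw [hα, ← (h1 i (by omega) (by omega)).range]
    exact ⟨x, rfl⟩
  have mU0 : ∀ i, i + 3 ≤ n + 1 → ∀ g ∈ uFix (n + 1) F 2 (Ico i (i + 2)), α i g ∈ U i := by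
    intro i h g hg
    obtain ⟨x, rfl⟩ := (mem_uFix_Ico 2 i (by omega) g).1 hg
    have : α i (suEmb (ivE 2 i (by omega)) x) = φ i (i01 x) := by
      rw [← hα i h, i01, suEmb_comp, ivE_trans]; rfl
    rw [this, ← (h1 i (by omega) (by omega)).left]
    exact ⟨x, rfl⟩
  have mU1 : ∀ i, i + 3 ≤ n + 1 → ∀ g ∈ uFix (n + 1) F 2 (Ico (i + 1) (i + 3)),
      α i g ∈ U (i + 1) := by
    intro i h g hg
    obtain ⟨x, rfl⟩ := (mem_uFix_Ico 2 (i + 1) (by omega) g).1 hg
    have : α i (suEmb (ivE 2 (i + 1) (by omega)) x) = φ i (i12 x) := by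
      rw [← hα i h, i12, suEmb_comp, ivE_trans]
    rw [this, ← (h1 i (by omega) (by omega)).right]
    exact ⟨x, rfl⟩
  obtain ⟨Φ, hΦ⟩ := u_amalgam4 (q := 2) (N := n + 1) (by omega) α β
    (fun i h a ha b hb => by
      obtain ⟨x, rfl⟩ := (mem_uFix_Ico 4 i h a).1 ha
      obtain ⟨y, rfl⟩ := (mem_uFix_Ico 4 i h b).1 hb
      rw [← map_mul, hβ, hβ, hβ, map_mul])
    (fun i h a ha => by
      obtain ⟨x, rfl⟩ := (mem_uFix_Ico 3 i (by omega) a).1 ha
      rw [hα, ← (h2 i (by omega) (by omega)).1, MonoidHom.comp_apply, ← hβ i h (suEmb _ x),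
        suEmb_comp, ivE_trans]; rfl)
    (fun i h a ha => by
      obtain ⟨x, rfl⟩ := (mem_uFix_Ico 3 (i + 1) (by omega) a).1 ha
      rw [hα, ← (h2 i (by omega) (by omega)).2, MonoidHom.comp_apply, ← hβ i h (suEmb _ x),
        suEmb_comp, ivE_trans])
    (fun i j hij hj a ha b hb =>
      (h5 i j hij (by omega) _ (mU0 i (by omega) a ha) _ (mV j hj b hb)).symm)
    (fun i j hij hj a ha b hb =>
      (h6 i j hij (by omega) _ (mV i (by omega) a ha) _ (mV j hj b hb)).symm)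
    (fun i j hij hj a ha b hb =>
      h5' i (j + 1) (by omega) (by omega) _ (mU1 j hj b hb) _ (mV i (by omega) a ha))
  refine ⟨Φ, fun i hi => ?_⟩
  rw [← (h1 i (by omega) (by omega)).range]
  rintro _ ⟨x, rfl⟩
  exact ⟨suEmb (ivE 3 i (by omega)) x, by
    rw [hΦ i (by omega) _ ((mem_uFix_Ico 3 i _ _).2 ⟨x, rfl⟩), hα]⟩

end Two

end Cfsg.Agent.Amalg
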